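import Cfsg.Agent.Lib.CoTwoCert.ModelData
import Cfsg.Agent.Lib.Leech.Co0Basic

/-!
# Coordinates modulo two on the lattice and the action of an integral matrix on them

* `cls` : the class of a lattice vector modulo two, as a 24 bit number
* `cls_add`, `exists_two_smul` : additivity and kernel
* `fn`, `app` : linear maps given by codes
* `colsOK`, `cls_matEl` : the check that a code describes a matrix
-/

set_option autoImplicit false

namespace Cfsg.Agent.CoTwoCert

open Leech
open scoped Matrix

/-- A vector of the basis. -/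
def bL (k : ℕ) : List ℤ := Data.basis.getD k []

/-- A vector of the dual basis, times eight. -/
def dL (k : ℕ) : List ℤ := Data.dual.getD k []

theorem dual_identity : ∀ i < 24, ∀ j < 24,
    ((List.range 24).map fun k => (bL k).getD i 0 * (dL k).getD j 0).sum = if i = j then 8 else 0 := by
  decide +kernel

theorem dual_gens : ∀ k < 24, ∀ g ∈ genLists, dotL (dL k) g % 8 = 0 := by decide +kernel

theorem basis_check : ∀ k < 24, inLatL (bL k) = true ∧ (bL k).length = 24 ∧ (dL k).length = 24 := by
  decide +kernel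

/-- A coordinate of a vector. -/
def coord (x : GolayPt → ℤ) (k : ℕ) : ℤ := (vOf (dL k) ⬝ᵥ x) / 8

theorem dvd_coord {x : GolayPt → ℤ} (hx : x ∈ leechLattice) {k : ℕ} (hk : k < 24) :
    (8 : ℤ) ∣ vOf (dL k) ⬝ᵥ x := by
  let A : AddSubgroup (GolayPt → ℤ) :=
    { carrier := {x | (8 : ℤ) ∣ vOf (dL k) ⬝ᵥ x}
      zero_mem' := by simp
      add_mem' := fun {a b} (ha : (8 : ℤ) ∣ _) (hb : (8 : ℤ) ∣ _) => by
        show (8 : ℤ) ∣ _
        rw [dotProduct_add]
        exact dvd_add ha hb
      neg_mem' := fun {a} (ha : (8 : ℤ) ∣ _) => by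
        show (8 : ℤ) ∣ _
        rw [dotProduct_neg]
        exact ha.neg_right }
  have hg : ∀ g ∈ genLists, vOf g ∈ A := fun g hg => by
    show (8 : ℤ) ∣ _
    rw [vOf_dotProduct _ (genLists_spec.1 g hg)]
    exact Int.dvd_of_emod_eq_zero (dual_gens k hk g hg)
  obtain ⟨-, h1, h2, h3, h4⟩ := genLists_spec
  refine mem_of_gens A (fun i => ?_) ?_ (fun r hr => ?_) ?_ hx
  · obtain ⟨g, hg', e⟩ := h1 i; exact e ▸ hg g hg'
  · obtain ⟨g, hg', e⟩ := h2; exact e ▸ hg g hg'
  · obtain ⟨g, hg', e⟩ := h4 r hr; exact e ▸ hg g hg'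
  · obtain ⟨g, hg', e⟩ := h3; exact e ▸ hg g hg'

theorem eight_coord {x : GolayPt → ℤ} (hx : x ∈ leechLattice) {k : ℕ} (hk : k < 24) :
    8 * coord x k = vOf (dL k) ⬝ᵥ x :=
  Int.mul_ediv_cancel' (dvd_coord hx hk)

theorem coord_add {x y : GolayPt → ℤ} (hx : x ∈ leechLattice) (hy : y ∈ leechLattice) {k : ℕ}
    (hk : k < 24) : coord (x + y) k = coord x k + coord y k := by
  have h := eight_coord (leechLattice.add_mem hx hy) hk
  rw [dotProduct_add, ← eight_coord hx hk, ← eight_coord hy hk] at h
  omega

/-- The basis in the lattice. -/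
def bV (k : ℕ) : leechLattice :=
  if h : inLatL (bL k) = true then ⟨vOf (bL k), mem_of_inLatL h⟩ else 0

theorem coe_bV {k : ℕ} (hk : k < 24) : (bV k : GolayPt → ℤ) = vOf (bL k) := by
  rw [bV, dif_pos (basis_check k hk).1]

theorem sum_list_range (f : ℕ → ℤ) (n : ℕ) :
    ((List.range n).map f).sum = ∑ k ∈ Finset.range n, f k := rfl

theorem expand (x : leechLattice) :
    x = ∑ k ∈ Finset.range 24, coord (x : GolayPt → ℤ) k • bV k := by
  refine Subtype.ext (funext fun p => ?_)
  rw [AddSubgroup.val_finsetSum, Finset.sum_apply]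
  refine Int.eq_of_mul_eq_mul_left (a := 8) (by norm_num) ?_
  rw [Finset.mul_sum]
  have e : ∀ k ∈ Finset.range 24, 8 * ((coord (x : GolayPt → ℤ) k • bV k : leechLattice) : GolayPt → ℤ) p =
      ∑ q : GolayPt, (bL k).getD (Golay.idx p) 0 * (dL k).getD (Golay.idx q) 0 * (x : GolayPt → ℤ) q := by
    intro k hk
    have hk' := Finset.mem_range.1 hk
    rw [AddSubgroupClass.coe_zsmul, Pi.smul_apply, smul_eq_mul, coe_bV hk', ← mul_assoc,
      eight_coord x.2 hk', dotProduct, Finset.sum_mul]
    exact Finset.sum_congr rfl fun q _ => by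
      show (dL k).getD (Golay.idx q) 0 * _ * (bL k).getD (Golay.idx p) 0 = _
      ring
  rw [Finset.sum_congr rfl e, Finset.sum_comm]
  have e2 : ∀ q : GolayPt, (∑ k ∈ Finset.range 24,
      (bL k).getD (Golay.idx p) 0 * (dL k).getD (Golay.idx q) 0 * (x : GolayPt → ℤ) q) =
      (if p = q then 8 else 0) * (x : GolayPt → ℤ) q := by
    intro q
    rw [← Finset.sum_mul, ← sum_list_range, dual_identity _ (Golay.idx_lt p) _ (Golay.idx_lt q)]
    simp only [Golay.idx_injective.eq_iff]
  rw [Finset.sum_congr rfl fun q _ => e2 q]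
  simp

/-- The class modulo two of a vector. -/
def clsV (x : GolayPt → ℤ) : ℕ := oddMask ((List.range 24).map (coord x))

/-- The class modulo two of a lattice vector. -/
def cls (x : leechLattice) : ℕ := clsV (x : GolayPt → ℤ)

theorem testBit_cls (x : leechLattice) (k : ℕ) :
    (cls x).testBit k = (decide (k < 24) && coord (x : GolayPt → ℤ) k % 2 == 1) := by
  rw [cls, clsV, testBit_oddMask]
  by_cases hk : k < 24
  · rw [List.getD_eq_getElem _ _ (by simpa using hk), List.getElem_map, List.getElem_range]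
    simp [hk]
  · rw [List.getD_eq_default _ _ (by simpa using hk)]
    simp [hk]

theorem cls_add (x y : leechLattice) : cls (x + y) = cls x ^^^ cls y := by
  refine Nat.eq_of_testBit_eq fun k => ?_
  rw [Nat.testBit_xor, testBit_cls, testBit_cls, testBit_cls]
  by_cases hk : k < 24
  · rw [AddSubgroup.coe_add, coord_add x.2 y.2 hk]
    simp only [hk, decide_true, Bool.true_and]
    rcases Int.emod_two_eq_zero_or_one (coord (x : GolayPt → ℤ) k) with a | a <;>
      rcases Int.emod_two_eq_zero_or_one (coord (y : GolayPt → ℤ) k) with b | b <;>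
      simp [Int.add_emod, a, b]
  · simp [hk]

theorem cls_zero : cls 0 = 0 := by
  have h := cls_add 0 0
  rw [add_zero, Nat.xor_self] at h
  exact h

theorem cls_neg (x : leechLattice) : cls (-x) = cls x := by
  have h := cls_add x (-x)
  rw [add_neg_cancel, cls_zero] at h
  exact (Nat.xor_eq_zero_iff.1 h.symm).symm

theorem exists_two_smul {x : leechLattice} (h : cls x = 0) : ∃ y : leechLattice, x = y + y := by
  refine ⟨∑ k ∈ Finset.range 24, (coord (x : GolayPt → ℤ) k / 2) • bV k, ?_⟩
  conv_lhs => rw [expand x]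
  rw [← Finset.sum_add_distrib]
  refine Finset.sum_congr rfl fun k hk => ?_
  have hb := testBit_cls x k
  rw [h, Nat.zero_testBit] at hb
  simp only [Finset.mem_range.1 hk, decide_true, Bool.true_and] at hb
  have hne : coord (x : GolayPt → ℤ) k % 2 ≠ 1 := by simpa using hb.symm
  rw [← add_smul]
  congr 1
  omega

theorem cls_lt (x : leechLattice) : cls x < 2 ^ 24 := by
  refine Nat.lt_pow_two_of_testBit _ fun i hi => ?_
  rw [testBit_cls]
  simp [show ¬ i < 24 by omega]

/-- The image of `v` under the first `n` columns of a code. -/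
def fnN (d v : ℕ) : ℕ → ℕ
  | 0 => 0
  | n + 1 => (bif v.testBit n then (d >>> (24 * n)) &&& 0xffffff else 0) ^^^ fnN d v n

/-- The image of a class under a code. -/
def fn (d v : ℕ) : ℕ := fnN d v 24

theorem fnN_zero (d : ℕ) : ∀ n, fnN d 0 n = 0
  | 0 => rfl
  | n + 1 => by simp [fnN, fnN_zero d n]

theorem fn_zero (d : ℕ) : fn d 0 = 0 := fnN_zero d 24

theorem fnN_xor (d u v : ℕ) : ∀ n, fnN d (u ^^^ v) n = fnN d u n ^^^ fnN d v n
  | 0 => (Nat.xor_self 0).symm
  | n + 1 => by
    rw [fnN, fnN, fnN, fnN_xor d u v n, Nat.testBit_xor]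
    cases u.testBit n <;> cases v.testBit n <;>
      simp only [bne_self_eq_false, Bool.false_bne, Bool.true_bne, Bool.not_false, cond_true, cond_false,
        Nat.zero_xor] <;>
      refine Nat.eq_of_testBit_eq fun i => ?_ <;> simp only [Nat.testBit_xor] <;>
      cases ((d >>> (24 * n)) &&& 0xffffff).testBit i <;> cases (fnN d u n).testBit i <;>
      cases (fnN d v n).testBit i <;> rfl

theorem fn_xor (d u v : ℕ) : fn d (u ^^^ v) = fn d u ^^^ fn d v := fnN_xor d u v 24

/-- The image of a class under a product of codes, the last factor first. -/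
def app : List ℕ → ℕ → ℕ
  | [], v => v
  | d :: l, v => fn d (app l v)

theorem app_zero : ∀ l, app l 0 = 0
  | [] => rfl
  | d :: l => by rw [app, app_zero l, fn_zero]

theorem app_xor : ∀ l u v, app l (u ^^^ v) = app l u ^^^ app l v
  | [], _, _ => rfl
  | d :: l, u, v => by rw [app, app, app, app_xor l u v, fn_xor]

theorem app_append : ∀ l r v, app (l ++ r) v = app l (app r v)
  | [], _, _ => rfl
  | d :: l, r, v => congrArg (fn d) (app_append l r v)

/-- Two additive maps into classes that agree on the basis agree. -/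
theorem eq_of_basis (f g : leechLattice → ℕ) (hf : ∀ x y, f (x + y) = f x ^^^ f y)
    (hg : ∀ x y, g (x + y) = g x ^^^ g y) (h : ∀ k < 24, f (bV k) = g (bV k)) (x : leechLattice) :
    f x = g x := by
  have zero : ∀ f : leechLattice → ℕ, (∀ x y, f (x + y) = f x ^^^ f y) → f 0 = 0 := fun f hf => by
    have := hf 0 0
    rw [add_zero, Nat.xor_self] at this
    exact this
  let A : AddSubgroup leechLattice :=
    { carrier := {x | f x = g x}
      zero_mem' := (zero f hf).trans (zero g hg).symm
      add_mem' := fun {a b} (ha : f a = g a) (hb : f b = g b) => by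
        show f (a + b) = g (a + b)
        rw [hf, hg, ha, hb]
      neg_mem' := fun {a} (ha : f a = g a) => by
        show f (-a) = g (-a)
        have h1 := hf a (-a)
        have h2 := hg a (-a)
        rw [add_neg_cancel, zero f hf] at h1
        rw [add_neg_cancel, zero g hg] at h2
        rw [← Nat.xor_eq_zero_iff.1 h1.symm, ← Nat.xor_eq_zero_iff.1 h2.symm, ha] }
  rw [expand x]
  exact A.sum_mem fun k hk => A.zsmul_mem (h k (Finset.mem_range.1 hk)) _

/-- The image of a list of coordinates under a matrix times eight, divided by eight. -/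
def imgL (L : List (List ℤ)) (x : List ℤ) : List ℤ := L.map fun r => dotL r x / 8

/-- The class of a list of coordinates. -/
def clsL (x : List ℤ) : ℕ := oddMask ((List.range 24).map fun j => dotL (dL j) x / 8)

theorem clsV_vOf {x : List ℤ} (hx : x.length = 24) : clsV (vOf x) = clsL x := by
  refine congrArg oddMask (List.map_congr_left fun j _ => ?_)
  rw [coord, vOf_dotProduct _ hx]

theorem cls_bV : ∀ k < 24, cls (bV k) = 1 <<< k := by
  have h : ∀ k < 24, clsL (bL k) = 1 <<< k := by decide +kernel
  intro k hk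
  rw [cls, coe_bV hk, clsV_vOf (basis_check k hk).2.1, h k hk]

/-- A code describes a matrix on the basis. -/
def colsOK (L : List (List ℤ)) (d : ℕ) : Bool :=
  (List.range 24).all fun k =>
    (L.all fun r => dotL r (bL k) % 8 == 0) && inLatL (imgL L (bL k)) &&
      clsL (imgL L (bL k)) == fn d (1 <<< k)

theorem cls_matEl {L : List (List ℤ)} {d : ℕ} (hM : MatOK (toMat L)) (hL : L.length = 24)
    (h : colsOK L d = true) (x : leechLattice) : cls (matEl (toMat L) hM • x) = fn d (cls x) := by
  simp only [colsOK, List.all_eq_true, List.mem_range, Bool.and_eq_true, beq_iff_eq] at h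
  refine eq_of_basis (fun x => cls (matEl (toMat L) hM • x)) (fun x => fn d (cls x))
    (fun x y => by rw [smul_vadd, cls_add]) (fun x y => by rw [cls_add, fn_xor]) (fun k hk => ?_) x
  obtain ⟨⟨h1, h2⟩, h3⟩ := h k hk
  have hlen : (imgL L (bL k)).length = 24 := by rw [imgL, List.length_map, hL]
  have e : matEl (toMat L) hM • bV k = ⟨vOf (imgL L (bL k)), mem_of_inLatL h2⟩ := by
    refine matEl_smul _ hM fun i => ?_
    rw [coe_bV hk, toMat_mulVec L (basis_check k hk).2.1]
    show (L.map fun r => dotL r (bL k)).getD (Golay.idx i) 0 = 8 * (imgL L (bL k)).getD (Golay.idx i) 0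
    have hi : Golay.idx i < L.length := hL ▸ Golay.idx_lt i
    rw [imgL, List.getD_eq_getElem _ _ (by simpa using hi), List.getD_eq_getElem _ _ (by simpa using hi),
      List.getElem_map, List.getElem_map]
    have := h1 _ (List.getElem_mem hi)
    omega
  show cls _ = fn d (cls (bV k))
  rw [cls_bV k hk, e, cls, clsV_vOf hlen, h3]

end Cfsg.Agent.CoTwoCert
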