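import Cfsg.Agent.Lib.CoTwoType.Model

/-!
# Eight involutions with the commutators of the coded extraspecial group

* `ext` : the element of a coded vector
* `ext_mul` : the map is multiplicative for `qm`
-/

set_option autoImplicit false

namespace Cfsg.Agent.CoTwoCert

open CoTwoType

theorem bB_xor_left (x y z : ℕ) : bB (x ^^^ y) z = (bB x z != bB y z) := by
  simp only [bB, Nat.testBit_xor]
  cases x.testBit 0 <;> cases x.testBit 1 <;> cases x.testBit 2 <;> cases x.testBit 3 <;>
    cases y.testBit 0 <;> cases y.testBit 1 <;> cases y.testBit 2 <;> cases y.testBit 3 <;>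
    cases z.testBit 7 <;> cases z.testBit 6 <;> cases z.testBit 5 <;> cases z.testBit 4 <;> rfl

theorem bB_xor_right (x y z : ℕ) : bB x (y ^^^ z) = (bB x y != bB x z) := by
  simp only [bB, Nat.testBit_xor]
  cases x.testBit 0 <;> cases x.testBit 1 <;> cases x.testBit 2 <;> cases x.testBit 3 <;>
    cases y.testBit 4 <;> cases y.testBit 5 <;> cases y.testBit 6 <;> cases y.testBit 7 <;>
    cases z.testBit 7 <;> cases z.testBit 6 <;> cases z.testBit 5 <;> cases z.testBit 4 <;> rfl

theorem bB_centre (x : ℕ) : bB x 256 = false ∧ bB 256 x = false := by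
  have h : ∀ i < 8, (256 : ℕ).testBit i = false := by decide +kernel
  simp [bB, h]

theorem qm_assoc' (a b c : ℕ) : qm (qm a b) c = qm a (qm b c) := by
  have hz : ∀ (p : Bool) (x : ℕ), bB (bif p then 256 else 0) x = false ∧
      bB x (bif p then 256 else 0) = false := fun p x => by
    cases p
    · simp [bB]
    · exact ⟨(bB_centre x).2, (bB_centre x).1⟩
  have h : ∀ p q : Bool, (bif (p != q) then (256 : ℕ) else 0) =
      (bif p then 256 else 0) ^^^ (bif q then 256 else 0) := by decide
  simp only [qm, bB_xor_left, bB_xor_right, (hz _ _).1, (hz _ _).2, Bool.bne_false, h]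
  simp only [Nat.xor_assoc, Nat.xor_comm, Nat.xor_left_comm]

theorem low_check : ∀ b < 512, b ≠ 0 →
    ∃ k < 9, qm (b ^^^ (1 <<< k)) (1 <<< k) = b ∧ b ^^^ (1 <<< k) < b := by
  decide +kernel

variable {G : Type*} [Group G]

/-- A power of the central involution. -/
def zp (z : G) (p : Bool) : G := bif p then z else 1

/-- The descending product of the letters below `n` in a vector. -/
def low (e : ℕ → G) (a : ℕ) : ℕ → G
  | 0 => 1
  | n + 1 => (bif a.testBit n then e n else 1) * low e a n

/-- The element of a coded vector. -/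
def ext (e : ℕ → G) (z : G) (a : ℕ) : G := zp z (a.testBit 8) * low e a 8

/-- The relations. -/
structure ExtRel (e : ℕ → G) (z : G) : Prop where
  sq : ∀ i < 8, e i * e i = 1
  z_sq : z * z = 1
  z_comm : ∀ i < 8, Commute z (e i)
  comm : ∀ i < 8, ∀ j < 8, e i * e j = e j * e i * zp z (i + j == 7)

variable {e : ℕ → G} {z : G}

theorem low_congr {a b : ℕ} : ∀ n, (∀ i < n, a.testBit i = b.testBit i) → low e a n = low e b n
  | 0, _ => rfl
  | n + 1, h => by
    rw [low, low, h n (Nat.lt_succ_self n), low_congr n fun i hi => h i (Nat.lt_succ_of_lt hi)]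

theorem zp_mul (hR : ExtRel e z) (p q : Bool) : zp z p * zp z q = zp z (p != q) := by
  cases p <;> cases q <;> simp [zp, hR.z_sq]

theorem zp_low (hR : ExtRel e z) (p : Bool) (a : ℕ) : ∀ n ≤ 8, Commute (zp z p) (low e a n)
  | 0, _ => Commute.one_right _
  | n + 1, hn => by
    refine Commute.mul_right ?_ (zp_low hR p a n (by omega))
    cases p <;> cases a.testBit n <;> simp only [zp, cond_true, cond_false]
    · exact Commute.one_left _
    · exact Commute.one_left _
    · exact Commute.one_right _
    · exact hR.z_comm n (by omega)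

theorem low_move (hR : ExtRel e z) (a : ℕ) {k : ℕ} (hk : k < 8) : ∀ n ≤ k,
    low e a n * e k = e k * low e a n * zp z (decide (7 - k < n) && a.testBit (7 - k))
  | 0, _ => by simp [low, zp]
  | n + 1, hn => by
    have ih := low_move hR a hk n (by omega)
    rw [low, mul_assoc, ih]
    by_cases hb : a.testBit n
    · rw [hb, cond_true, ← mul_assoc, ← mul_assoc, hR.comm n (by omega) k hk, mul_assoc (e k * e n),
        (zp_low hR _ a n (by omega)).eq, ← mul_assoc, mul_assoc _ (zp z _) (zp z _), zp_mul hR,
        mul_assoc (e k)]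
      congr 2
      by_cases h7 : n + k = 7
      · subst_vars
        have e1 : 7 - k = n := by omega
        simp [h7, e1, hb]
      · have e1 : decide (7 - k < n + 1) = decide (7 - k < n) := decide_eq_decide.2 (by omega)
        rw [show (n + k == 7) = false from beq_false_of_ne h7, e1, Bool.false_bne]
    · rw [Bool.not_eq_true] at hb
      rw [hb, cond_false, one_mul, one_mul]
      congr 2
      by_cases h7 : 7 - k = n
      · rw [h7, hb]; simp
      · rw [show decide (7 - k < n + 1) = decide (7 - k < n) from decide_eq_decide.2 (by omega)]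

theorem low_mul (hR : ExtRel e z) (a : ℕ) {k : ℕ} : ∀ n ≤ 8, k < n →
    low e a n * e k = low e (a ^^^ (1 <<< k)) n * zp z (decide (7 - k < k) && a.testBit (7 - k))
  | 0, _, h => absurd h (Nat.not_lt_zero _)
  | n + 1, hn, hk => by
    have hbit : ∀ i, (a ^^^ (1 <<< k)).testBit i = (a.testBit i != decide (k = i)) := fun i => by
      rw [Nat.testBit_xor, Nat.shiftLeft_eq, one_mul, Nat.testBit_two_pow]
    rcases Nat.lt_succ_iff_lt_or_eq.1 hk with hk' | rfl
    · rw [low, low, mul_assoc, low_mul hR a n (by omega) hk', ← mul_assoc, hbit n]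
      simp [(show ¬ k = n by omega)]
    · rw [low, low, mul_assoc, low_move hR a (by omega) k le_rfl, ← mul_assoc, ← mul_assoc,
        low_congr (a := a ^^^ (1 <<< k)) (b := a) k (fun i hi => by
          rw [hbit i]; simp [(show ¬ k = i by omega)]), hbit k]
      congr 2
      cases a.testBit k <;> simp [hR.sq k (by omega)]

theorem ext_mul_bit (hR : ExtRel e z) (a : ℕ) {k : ℕ} (hk : k < 8) :
    ext e z a * e k = ext e z (qm a (1 <<< k)) := by
  have hB : bB a (1 <<< k) = (decide (7 - k < k) && a.testBit (7 - k)) := by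
    have h : ∀ k < 8, ∀ i < 8, (1 <<< k).testBit i = decide (k = i) := by decide +kernel
    rw [bB, h k hk 7 (by omega), h k hk 6 (by omega), h k hk 5 (by omega), h k hk 4 (by omega)]
    rcases (show k = 0 ∨ k = 1 ∨ k = 2 ∨ k = 3 ∨ k = 4 ∨ k = 5 ∨ k = 6 ∨ k = 7 by omega) with
      rfl | rfl | rfl | rfl | rfl | rfl | rfl | rfl <;> simp
  set c : ℕ := bif bB a (1 <<< k) then 256 else 0 with hc
  have hlo : ∀ i < 8, c.testBit i = false := by
    rw [hc]; cases bB a (1 <<< k) <;> decide +kernel
  have h8 : c.testBit 8 = bB a (1 <<< k) := by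
    rw [hc]; cases bB a (1 <<< k) <;> decide +kernel
  have hk8 : (1 <<< k).testBit 8 = false := by
    rw [Nat.shiftLeft_eq, one_mul, Nat.testBit_two_pow]; simp; omega
  rw [ext, ext, mul_assoc, low_mul hR a 8 le_rfl hk, ← (zp_low hR _ _ 8 le_rfl).eq, ← mul_assoc,
    zp_mul hR, ← hB]
  congr 1
  · show zp z _ = zp z ((a ^^^ (1 <<< k) ^^^ c).testBit 8)
    rw [Nat.testBit_xor, Nat.testBit_xor, h8, hk8]
    simp
  · refine low_congr 8 fun i hi => ?_
    show _ = (a ^^^ (1 <<< k) ^^^ c).testBit i
    rw [Nat.testBit_xor (a ^^^ (1 <<< k)), hlo i hi]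
    simp

theorem ext_zero (hR : ExtRel e z) : ext e z 0 = 1 := by
  have h : low e 0 8 = (1 : G) := by simp [low]
  simp [ext, zp, h]

theorem ext_bit (hR : ExtRel e z) {k : ℕ} (hk : k < 8) : ext e z (1 <<< k) = e k := by
  have h := ext_mul_bit hR 0 hk
  rw [ext_zero hR, one_mul] at h
  rw [h]
  congr 1
  have : bB 0 (1 <<< k) = false := by simp [bB]
  simp [qm, this]

theorem ext_centre : ext e z 256 = z := by
  have hb : ∀ i < 8, (256 : ℕ).testBit i = false := by decide +kernel
  have h8 : (256 : ℕ).testBit 8 = true := by decide +kernel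
  simp [ext, zp, low, hb, h8]

theorem ext_mul_centre (hR : ExtRel e z) (a : ℕ) : ext e z a * z = ext e z (qm a 256) := by
  have hlo : ∀ i < 8, (256 : ℕ).testBit i = false := by decide +kernel
  have h8 : (256 : ℕ).testBit 8 = true := by decide +kernel
  have e1 : qm a 256 = a ^^^ 256 := by simp [qm, (bB_centre a).1]
  have hc : low e a 8 * z = zp z true * low e a 8 := (zp_low hR true a 8 le_rfl).eq.symm
  rw [e1, ext, ext, low_congr (a := a ^^^ 256) (b := a) 8 (fun i hi => by
    rw [Nat.testBit_xor, hlo i hi]; simp), Nat.testBit_xor, h8, mul_assoc, hc, ← mul_assoc, zp_mul hR]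

theorem ext_mul (hR : ExtRel e z) (a : ℕ) : ∀ b < 512, ext e z a * ext e z b = ext e z (qm a b) := by
  intro b
  induction b using Nat.strong_induction_on generalizing a with
  | _ b ih =>
    intro hb
    by_cases hb0 : b = 0
    · subst hb0
      rw [ext_zero hR, mul_one]
      congr 1
      simp [qm, bB]
    obtain ⟨k, hk, hq, hlt⟩ := low_check b hb hb0
    have hr : ∀ v, ext e z v * ext e z (1 <<< k) = ext e z (qm v (1 <<< k)) := by
      intro v
      rcases Nat.lt_succ_iff_lt_or_eq.1 hk with hk' | rfl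
      · rw [ext_bit hR hk', ext_mul_bit hR v hk']
      · rw [show 1 <<< 8 = 256 from rfl, ext_centre, ext_mul_centre hR]
    rw [← hq, ← hr, ← mul_assoc, ih _ hlt a (hlt.trans hb), hr, qm_assoc']

end Cfsg.Agent.CoTwoCert
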