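import Cfsg.Agent.Lib.CoTwoClose.InCoTwo

/-!
# The centraliser of an involution and one more involution generate the second Conway group

The closing step applied to the subgroup they generate.

* `closure_g2_eq_top` : `C(z0) ⊔ ⟨g2⟩ = ⊤`
-/

set_option autoImplicit false
set_option maxRecDepth 20000
set_option maxHeartbeats 1000000

namespace Cfsg.Agent.CoTwoCert

open Leech CoTwoType
open CoTwoClose (Coded ofBase)

/-- The subgroup in question. -/
noncomputable def genH : Subgroup ↥co2Group :=
  Subgroup.centralizer ({z0} : Set ↥co2Group) ⊔ Subgroup.zpowers g2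

theorem centralizer_le_genH {c : ↥co2Group} (h : Commute c z0) : c ∈ genH :=
  (le_sup_left : _ ≤ genH) (Subgroup.mem_centralizer_singleton_iff.2 h)

theorem g2_mem_genH : g2 ∈ genH := (le_sup_right : _ ≤ genH) (Subgroup.mem_zpowers g2)

theorem val_mem_genH : ∀ {w : List ℕ}, (∀ k ∈ w, k < 17) → val w ∈ genH
  | [], _ => by rw [val_nil]; exact Subgroup.one_mem _
  | k :: w, h => by
    rw [val_cons]
    refine Subgroup.mul_mem _ ?_ (val_mem_genH fun j hj => h j (List.mem_cons_of_mem _ hj))
    rcases Nat.lt_or_ge k 16 with hk | hk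
    · exact centralizer_le_genH (letter_z0 hk)
    · obtain rfl : k = 16 := by have := h k List.mem_cons_self; omega
      exact g2_mem_genH

theorem z0_mem_genH : z0 ∈ genH := centralizer_le_genH (Commute.refl _)

theorem hel_mem_genH (j : Fin 7) : hel j ∈ genH :=
  centralizer_le_genH (letter_z0 (lt_trans j.isLt (by norm_num)))

theorem xw_lt : ∀ v < 512, ∀ k ∈ xw v, k < 17 := by decide +kernel

theorem xel_mem_genH {v : ℕ} (hv : v < 512) : xel v ∈ genH := by
  rw [xel_eq]; exact val_mem_genH (xw_lt v hv)

/-- The coordinates inside the subgroup. -/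
noncomputable def genCoded : Coded (⟨z0, z0_mem_genH⟩ : ↥genH) where
  h j := ⟨hel j, hel_mem_genH j⟩
  x v := if hv : v < 512 then ⟨xel v, xel_mem_genH hv⟩ else 1
  x_mul a ha b hb := by
    rw [dif_pos ha, dif_pos hb, dif_pos (qm_bound ha hb)]
    exact Subtype.ext (xel_mul a hb)
  x_inj a ha b hb h := by
    rw [dif_pos ha, dif_pos hb] at h
    exact xel_inj ha hb (congrArg Subtype.val h)
  x_z := by
    rw [dif_pos (by norm_num : 256 < 512)]
    exact Subtype.ext xel_centre
  h_conj j a ha := by
    rw [dif_pos ha, dif_pos (sig_lt j.val j.isLt a ha)]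
    exact Subtype.ext (hel_conj j a ha)
  rel i j := Subtype.ext (by simpa using hel_rel i j)
  long := Subtype.ext (by
    rw [← Subgroup.subtype_apply, map_list_prod, List.map_map]
    simpa [Function.comp_def] using hel_long)
  gen c hc := by
    refine (Subgroup.mem_map_iff_mem (f := genH.subtype) Subtype.val_injective).1 ?_
    rw [MonoidHom.map_closure, Set.image_union, ← Set.range_comp]
    refine Subgroup.closure_mono ?_ (gen0 (c : ↥co2Group) (congrArg Subtype.val hc))
    refine Set.union_subset_union (le_of_eq rfl) ?_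
    rintro _ ⟨v, hv, rfl⟩
    exact ⟨_, ⟨v, hv, rfl⟩, congrArg genH.subtype (dif_pos (show v < 512 from hv))⟩

theorem genCoded_el {a : ℕ × List (Fin 7)} (ha : a.1 < 512) :
    (genCoded.el a : ↥co2Group) = base0.el a := by
  show genH.subtype ((dite (a.1 < 512) _ _) * _) = xel a.1 * (a.2.map hel).prod
  rw [dif_pos ha, map_mul, map_list_prod, List.map_map]
  rfl

theorem genCoded_rep {k : ℕ} (hk : k < 10) :
    (genCoded.rep k : ↥co2Group) = (ofBase base0 split0).rep k :=
  genCoded_el (CoTwoClose.check_reps k hk).2.2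

theorem relP_lt : ∀ p ∈ CoTwoClose.relP, p.1.1 < 512 ∧ p.2.1 < 512 := by decide +kernel

theorem genCoded_labels : genCoded.Labels := by
  have hg : val CoTwoClose.gWord ∈ genH := val_mem_genH (by decide)
  have hconj : ∀ p ∈ CoTwoClose.relP,
      (⟨_, hg⟩ : ↥genH) * genCoded.el p.1 * (⟨_, hg⟩ : ↥genH)⁻¹ = genCoded.el p.2 := fun p hp => Subtype.ext (by
    rw [Subgroup.coe_mul, Subgroup.coe_mul, Subgroup.coe_inv, genCoded_el (relP_lt p hp).1,
      genCoded_el (relP_lt p hp).2]
    exact CoTwoClose.gWord_conj hp)
  have hL := CoTwoClose.labels_co2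
  refine ⟨fun p hp => isConj_iff.2 ⟨_, hconj p (List.mem_of_mem_take hp)⟩,
    genCoded.swap_of_pairs fun p hp => hconj p (List.mem_of_mem_drop hp), fun h => hL.z_b ?_,
    fun h => hL.z_c ?_, fun h => hL.b_c ?_⟩
  all_goals
    have h' := genH.subtype.map_isConj h
    simp only [Subgroup.subtype_apply, genCoded_rep (show 1 < 10 by norm_num),
      genCoded_rep (show 3 < 10 by norm_num)] at h'
    exact h'

/-- **The centraliser and the extra involution generate.** -/
theorem closure_g2_eq_top :
    Subgroup.centralizer ({z0} : Set ↥co2Group) ⊔ Subgroup.zpowers g2 = ⊤ := by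
  have := finite_co2
  have hL := CoTwoClose.labels_co2
  have h := genCoded_labels.model.range_eq_top (φ := genH.subtype) Subtype.val_injective
    (fun g hg => by rw [Subgroup.range_subtype]; exact centralizer_le_genH hg)
    (by
      simp only [Subgroup.subtype_apply, genCoded_rep (show 1 < 10 by norm_num)]
      exact hL.z_b)
    (by
      simp only [Subgroup.subtype_apply, genCoded_rep (show 3 < 10 by norm_num)]
      exact hL.z_c)
  rwa [Subgroup.range_subtype] at h

end Cfsg.Agent.CoTwoCert
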