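import Cfsg.Agent.Lib.CoTwoCert.ModelChecks
import Cfsg.Agent.Lib.Co2Centralizer.Group

/-!
# The seventeen letters in the second Conway group, read modulo two

* `letter`, `z0`, `val` : the letters and the element of a word
* `cls_letter`, `cls_val` : their action on classes modulo two
* `eq_of_app`, `ne_of_app` : words are compared through their codes
-/

set_option autoImplicit false

namespace Cfsg.Agent.CoTwoCert

open Leech MulAction

/-- The letters. -/
noncomputable def letter (k : ℕ) : ↥co2Group :=
  haveI := Classical.dec (∃ h : MatOK (toMat (rowsOf k)), matEl (toMat (rowsOf k)) h ∈ co2Group)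
  if h : ∃ h : MatOK (toMat (rowsOf k)), matEl (toMat (rowsOf k)) h ∈ co2Group then
    ⟨matEl _ h.choose, h.choose_spec⟩
  else 1

/-- The central involution. -/
noncomputable def z0 : ↥co2Group := letter 15

theorem vOf_uList : vOf uList = (baseU : GolayPt → ℤ) := by decide +kernel

theorem uList_length : uList.length = 24 := rfl

theorem letter_eq {k : ℕ} (hk : k < 17) : ∃ h : MatOK (toMat (rowsOf k)),
    (letter k : Co0) = matEl (toMat (rowsOf k)) h := by
  have hok := letters_ok k hk
  simp only [letterOK, Bool.and_eq_true, beq_iff_eq] at hok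
  obtain ⟨hM, -, -, -⟩ := matOK_of_lists hok.1.1
  have hmem : matEl (toMat (rowsOf k)) hM ∈ co2Group := by
    refine mem_stabilizer_iff.2 (matEl_smul _ hM fun i => ?_)
    rw [← vOf_uList, toMat_mulVec _ uList_length, hok.1.2]
    show (uList.map (8 * ·)).getD (Golay.idx i) 0 = 8 * uList.getD (Golay.idx i) 0
    rw [← List.getD_map (f := fun a : ℤ => 8 * a)]
    simp
  have hex : ∃ h : MatOK (toMat (rowsOf k)), matEl (toMat (rowsOf k)) h ∈ co2Group := ⟨hM, hmem⟩
  exact ⟨hM, by rw [letter, dif_pos hex]⟩

theorem cls_letter {k : ℕ} (hk : k < 17) (x : leechLattice) :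
    cls ((letter k : Co0) • x) = fn (codeOf k) (cls x) := by
  have hok := letters_ok k hk
  simp only [letterOK, Bool.and_eq_true, beq_iff_eq] at hok
  obtain ⟨-, -, hlen, -⟩ := matOK_of_lists hok.1.1
  obtain ⟨hM, he⟩ := letter_eq hk
  rw [he]
  exact cls_matEl hM hlen hok.2 x

/-- The element of a word. -/
noncomputable def val (w : List ℕ) : ↥co2Group := (w.map letter).prod

theorem val_nil : val [] = 1 := rfl

theorem val_cons (k : ℕ) (w : List ℕ) : val (k :: w) = letter k * val w := by simp [val]

theorem val_single (k : ℕ) : val [k] = letter k := by simp [val]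

theorem val_append (v w : List ℕ) : val (v ++ w) = val v * val w := by simp [val]

/-- The image of a class under a word. -/
def appW (w : List ℕ) (v : ℕ) : ℕ := app (w.map codeOf) v

theorem cls_val : ∀ w : List ℕ, (∀ k ∈ w, k < 17) → ∀ x : leechLattice,
    cls ((val w : Co0) • x) = appW w (cls x)
  | [], _, x => by
    show cls (((1 : ↥co2Group) : Co0) • x) = cls x
    rw [OneMemClass.coe_one, one_smul]
  | k :: w, h, x => by
    rw [val_cons, Subgroup.coe_mul, mul_smul, cls_letter (h k List.mem_cons_self),
      cls_val w (fun j hj => h j (List.mem_cons_of_mem _ hj))]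
    rfl

theorem cls_eq_iff (x y : leechLattice) : cls x = cls y ↔ ∃ u : leechLattice, x - y = u + u := by
  constructor
  · intro h
    refine exists_two_smul ?_
    rw [sub_eq_add_neg, cls_add, cls_neg, h, Nat.xor_self]
  · rintro ⟨u, h⟩
    have e := congrArg cls (eq_add_of_sub_eq h)
    rw [cls_add, cls_add, Nat.xor_self, Nat.zero_xor] at e
    exact e

theorem cls_smul_congr (g : Co0) {x y : leechLattice} (h : cls x = cls y) :
    cls (g • x) = cls (g • y) := by
  obtain ⟨u, hu⟩ := (cls_eq_iff x y).1 h
  exact (cls_eq_iff _ _).2 ⟨g • u, by rw [← smul_vsub, hu, smul_vadd]⟩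

theorem finite_co2 : Finite ↥co2Group :=
  Nat.finite_of_card_ne_zero (by rw [natCard_co2Group]; norm_num)

/-- The elements trivial modulo two. -/
def congrKer : Subgroup ↥co2Group where
  carrier := {g | ∀ x : leechLattice, cls ((g : Co0) • x) = cls x}
  one_mem' := fun x => by rw [OneMemClass.coe_one, one_smul]
  mul_mem' := fun {a b} ha hb x => by rw [Subgroup.coe_mul, mul_smul, ha, hb]
  inv_mem' := fun {a} ha x => by
    have h := ha (((a⁻¹ : ↥co2Group) : Co0) • x)
    rw [Subgroup.coe_inv, smul_inv_smul] at h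
    exact h.symm

theorem z0_moves : ∃ k < 24, fn (codeOf 15) (1 <<< k) ≠ 1 <<< k := by decide +kernel

theorem congrKer_eq_bot : congrKer = ⊥ := by
  have := isSimpleGroup_co2Group
  have hN : congrKer.Normal := ⟨fun g hg a x => by
    have h := hg (((a⁻¹ : ↥co2Group) : Co0) • x)
    have h2 := cls_smul_congr (a : Co0) h
    rw [Subgroup.coe_inv, smul_inv_smul] at h2
    rw [Subgroup.coe_mul, Subgroup.coe_mul, Subgroup.coe_inv, mul_smul, mul_smul]
    exact h2⟩
  refine (this.eq_bot_or_eq_top_of_normal _ hN).resolve_right fun h => ?_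
  obtain ⟨k, hk, hne⟩ := z0_moves
  have hm : z0 ∈ congrKer := h ▸ Subgroup.mem_top _
  have e := hm (bV k)
  rw [z0, cls_letter (by norm_num), cls_bV k hk] at e
  exact hne e

theorem eq_of_cls {g h : ↥co2Group}
    (he : ∀ k < 24, cls ((g : Co0) • bV k) = cls ((h : Co0) • bV k)) : g = h := by
  have key : ∀ x, cls ((g : Co0) • x) = cls ((h : Co0) • x) :=
    eq_of_basis _ _ (fun x y => by rw [smul_vadd, cls_add]) (fun x y => by rw [smul_vadd, cls_add]) he
  have hm : h⁻¹ * g ∈ congrKer := fun x => by
    have h2 := cls_smul_congr (h : Co0)⁻¹ (key x)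
    rw [inv_smul_smul] at h2
    rw [Subgroup.coe_mul, Subgroup.coe_inv, mul_smul]
    exact h2
  rw [congrKer_eq_bot, Subgroup.mem_bot] at hm
  exact (inv_mul_eq_one.1 hm).symm

/-- Equality of words from their codes. -/
theorem eq_of_app {v w : List ℕ} (hv : ∀ k ∈ v, k < 17) (hw : ∀ k ∈ w, k < 17)
    (h : ∀ k < 24, appW v (1 <<< k) = appW w (1 <<< k)) : val v = val w := by
  refine eq_of_cls fun k hk => ?_
  rw [cls_val v hv, cls_val w hw, cls_bV k hk, h k hk]

/-- Words with different codes are different. -/
theorem ne_of_app {v w : List ℕ} (hv : ∀ k ∈ v, k < 17) (hw : ∀ k ∈ w, k < 17) {k : ℕ} (hk : k < 24)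
    (h : appW v (1 <<< k) ≠ appW w (1 <<< k)) : val v ≠ val w := fun e => h (by
  rw [← cls_bV k hk, ← cls_val v hv, ← cls_val w hw, e])

/-- The Boolean form of the comparison. -/
def sameW (v w : List ℕ) : Bool :=
  (v.all fun k => Nat.blt k 17) && (w.all fun k => Nat.blt k 17) &&
    (List.range 24).all fun k => appW v (1 <<< k) == appW w (1 <<< k)

/-- The Boolean form of the distinction. -/
def diffW (v w : List ℕ) : Bool :=
  (v.all fun k => Nat.blt k 17) && (w.all fun k => Nat.blt k 17) &&
    (List.range 24).any fun k => appW v (1 <<< k) != appW w (1 <<< k)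

theorem eq_of_sameW {v w : List ℕ} (h : sameW v w = true) : val v = val w := by
  simp only [sameW, Bool.and_eq_true, List.all_eq_true, Nat.blt_eq, List.mem_range, beq_iff_eq] at h
  exact eq_of_app h.1.1 h.1.2 h.2

theorem ne_of_diffW {v w : List ℕ} (h : diffW v w = true) : val v ≠ val w := by
  simp only [diffW, Bool.and_eq_true, List.all_eq_true, Nat.blt_eq, List.any_eq_true, List.mem_range,
    bne_iff_ne] at h
  obtain ⟨⟨hv, hw⟩, k, hk, hne⟩ := h
  exact ne_of_app hv hw hk hne

theorem inv_check : ∀ k < 17, sameW [k, k] [] = true := by decide +kernel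

theorem letter_sq (k : ℕ) : letter k * letter k = 1 := by
  by_cases hk : k < 17
  · have h := eq_of_sameW (inv_check k hk)
    rwa [val_cons, val_single, val_nil] at h
  · have h : rowsOf k = [] := List.getD_eq_default _ _ (by
      rw [show Data.mats.length = 17 from rfl]; omega)
    have hno : ¬ ∃ h : MatOK (toMat (rowsOf k)), matEl (toMat (rowsOf k)) h ∈ co2Group := by
      rintro ⟨⟨h1, -⟩, -⟩
      rw [h] at h1
      have := congrFun (congrFun h1 none) none
      simp [toMat, vOf, Matrix.mul_apply] at this
    rw [letter, dif_neg hno, one_mul]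

theorem diag_list : ∀ a < 24, ∀ b < 24, ((rowsOf 15).getD a []).getD b 0 =
    if a = b then (if Golay.octad0.testBit a then (8 : ℤ) else -8) else 0 := by
  decide +kernel

theorem diag_check (i j : GolayPt) : toMat (rowsOf 15) i j =
    if i = j then (if i ∈ Co2Centralizer.oct then (8 : ℤ) else -8) else 0 := by
  rw [show toMat (rowsOf 15) i j = ((rowsOf 15).getD (Golay.idx i) []).getD (Golay.idx j) 0 from rfl,
    diag_list _ (Golay.idx_lt i) _ (Golay.idx_lt j)]
  simp only [Golay.idx_injective.eq_iff, Co2Centralizer.oct, Golay.mem_pts]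

/-- The central involution is the sign change outside the octad. -/
theorem coe_z0 : (z0 : Co0) = Co2Centralizer.inv0 := by
  obtain ⟨hM, he⟩ := letter_eq (k := 15) (by norm_num)
  rw [z0, he]
  refine co0_ext fun v => matEl_smul _ hM fun i => ?_
  rw [Co2Centralizer.inv0_smul, Matrix.mulVec, dotProduct]
  simp only [diag_check, ite_mul, zero_mul, Finset.sum_ite_eq, Finset.mem_univ, if_true]
  split_ifs <;> ring

end Cfsg.Agent.CoTwoCert
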