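import Cfsg.Agent.Lib.CoTwoCert.Letters
import Cfsg.Agent.Lib.CoTwoCert.ExtraTable
import Cfsg.Agent.Lib.CoTwoType.C0
import Cfsg.Agent.Lib.Co2Centralizer.Main

/-!
# The centraliser of an involution in the second Conway group in split coordinates

* `xel`, `hel` : the extraspecial group and the seven lifts as elements of `co2Group`
* `natCard_centralizer_z0` : the order of the centraliser
* `base0`, `split0` : the coordinates
-/

set_option autoImplicit false

namespace Cfsg.Agent.CoTwoCert

open Leech CoTwoType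
open Cfsg.Agent.Multiplier.Sp6

/-- The eight generators. -/
noncomputable def eel (S : ℕ) : ↥co2Group := letter (7 + S)

/-- The element of a coded vector. -/
noncomputable def xel (v : ℕ) : ↥co2Group := ext eel z0 v

/-- The word of a coded vector. -/
def xw (v : ℕ) : List ℕ :=
  (bif v.testBit 8 then [15] else []) ++
    ([7, 6, 5, 4, 3, 2, 1, 0].flatMap fun S => bif v.testBit S then [7 + S] else [])

/-- The seven lifts. -/
noncomputable def hel (j : Fin 7) : ↥co2Group := letter j.val

theorem sq_check : ∀ i < 8, sameW [7 + i, 7 + i] [] = true := by decide +kernel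

theorem comm_check : ∀ i < 8, ∀ j < 8,
    sameW [7 + i, 7 + j] ([7 + j, 7 + i] ++ (bif i + j == 7 then [15] else [])) = true := by
  decide +kernel

theorem zcomm_check : ∀ k < 16, sameW [k, 15] [15, k] = true := by decide +kernel

theorem letter_z0 {k : ℕ} (hk : k < 16) : Commute (letter k) z0 := by
  have h := eq_of_sameW (zcomm_check k hk)
  rwa [val_cons, val_single, val_cons, val_single] at h

theorem extRel : ExtRel eel z0 where
  sq i _ := letter_sq _
  z_sq := letter_sq _
  z_comm i hi := (letter_z0 (by omega)).symm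
  comm i hi j hj := by
    have h := eq_of_sameW (comm_check i hi j hj)
    simp only [val_append, val_cons, val_nil, mul_one] at h
    refine h.trans ?_
    cases (i + j == 7) <;> simp [zp, val, eel, z0]

theorem val_bif (b : Bool) (k : ℕ) : val (bif b then [k] else []) = bif b then letter k else 1 := by
  cases b <;> simp [val]

theorem xel_eq (v : ℕ) : xel v = val (xw v) := by
  simp only [xel, ext, xw, low, List.flatMap_cons, List.flatMap_nil, val_append, val_bif, val_nil, zp,
    eel, z0]

theorem xel_mul (a : ℕ) {b : ℕ} (hb : b < 512) : xel a * xel b = xel (qm a b) :=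
  ext_mul extRel a b hb

theorem xel_zero : xel 0 = 1 := ext_zero extRel

theorem xel_centre : xel 256 = z0 := ext_centre

theorem xel_bit {S : ℕ} (hS : S < 8) : xel (1 <<< S) = letter (7 + S) := ext_bit extRel hS

theorem nonzero_check : ∀ v < 512, v ≠ 0 → diffW (xw v) [] = true := by decide +kernel

theorem xel_ne_one {v : ℕ} (hv : v < 512) (h0 : v ≠ 0) : xel v ≠ 1 := by
  have h := ne_of_diffW (nonzero_check v hv h0)
  rwa [← xel_eq, val_nil] at h

theorem qm_bound {a b : ℕ} (ha : a < 512) (hb : b < 512) : qm a b < 512 := qm_lt a ha b hb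

theorem xel_inj {a b : ℕ} (ha : a < 512) (hb : b < 512) (h : xel a = xel b) : a = b := by
  obtain ⟨h1, h2, -⟩ := invQ_spec a ha
  have e : xel (qm (invQ a) b) = 1 := by
    rw [← xel_mul _ hb, ← h, xel_mul _ ha, h2, xel_zero]
  by_cases h0 : qm (invQ a) b = 0
  · have := congrArg (qm a) h0
    rw [← qm_assoc', (invQ_spec a ha).2.2, (qm_zero b hb).2.1, (qm_zero a ha).1] at this
    exact this.symm
  · exact absurd e (xel_ne_one (qm_bound h1 hb) h0)

theorem conj_check : ∀ j < 7, ∀ k < 9,
    sameW ([j] ++ xw (1 <<< k) ++ [j]) (xw (sig j (1 <<< k))) = true := by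
  decide +kernel

theorem hel_inv (j : Fin 7) : (hel j)⁻¹ = hel j := inv_eq_of_mul_eq_one_right (letter_sq _)

theorem hel_conj_bit (j : Fin 7) {k : ℕ} (hk : k < 9) :
    hel j * xel (1 <<< k) * (hel j)⁻¹ = xel (sig j.val (1 <<< k)) := by
  have h := eq_of_sameW (conj_check j.val j.isLt k hk)
  rw [val_append, val_append, val_single, ← xel_eq, ← xel_eq] at h
  rwa [hel_inv]

theorem bit_lt : ∀ k < 9, 1 <<< k < 512 := by decide

theorem hel_conj (j : Fin 7) : ∀ a < 512, hel j * xel a * (hel j)⁻¹ = xel (sig j.val a) := by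
  intro a
  induction a using Nat.strong_induction_on with
  | _ a ih =>
    intro ha
    by_cases h0 : a = 0
    · subst h0
      rw [xel_zero, mul_one, mul_inv_cancel,
        show sig j.val 0 = 0 from (by decide +kernel : ∀ i < 7, sig i 0 = 0) j.val j.isLt, xel_zero]
    obtain ⟨k, hk, hq, hlt⟩ := low_check a ha h0
    have hb := hlt.trans ha
    calc hel j * xel a * (hel j)⁻¹
        = hel j * (xel (a ^^^ (1 <<< k)) * xel (1 <<< k)) * (hel j)⁻¹ := by
          rw [xel_mul _ (bit_lt k hk), hq]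
      _ = (hel j * xel (a ^^^ (1 <<< k)) * (hel j)⁻¹) * (hel j * xel (1 <<< k) * (hel j)⁻¹) := by
          group
      _ = xel (qm (sig j.val (a ^^^ (1 <<< k))) (sig j.val (1 <<< k))) := by
          rw [ih _ hlt hb, hel_conj_bit j hk, xel_mul _ (sig_lt j.val j.isLt _ (bit_lt k hk))]
      _ = _ := by rw [← sig_hom_bit j.val j.isLt _ hb k hk, hq]

theorem rel_word_check : ∀ i j : Fin 7,
    sameW ((List.replicate (cexp i j) [i, j]).flatten.map Fin.val) [] = true := by
  decide +kernel

theorem long_word_check : sameW (longW.map Fin.val) [] = true := by decide +kernel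

theorem prod_map_hel (l : List (Fin 7)) : (l.map hel).prod = val (l.map Fin.val) := by
  rw [val, List.map_map]
  rfl

theorem hel_rel (i j : Fin 7) : (hel i * hel j) ^ cexp i j = 1 := by
  rw [← prod_replicate_pair, prod_map_hel, eq_of_sameW (rel_word_check i j), val_nil]

theorem hel_long : (longW.map hel).prod = 1 := by
  rw [prod_map_hel, eq_of_sameW long_word_check, val_nil]

/-- The centraliser. -/
noncomputable def C0 : Subgroup ↥co2Group := Subgroup.centralizer ({z0} : Set ↥co2Group)

theorem mem_C0 {g : ↥co2Group} : g ∈ C0 ↔ Commute g z0 :=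
  Subgroup.mem_centralizer_singleton_iff.trans ⟨fun h => h, fun h => h⟩

theorem leechU_eq : Spor.leechU = baseU := Subtype.ext (by decide +kernel)

/-- The centraliser is the one studied in `Co2Centralizer`. -/
noncomputable def centEquiv : ↥C0 ≃* ↥Co2Centralizer.cent where
  toFun c := ⟨c.1.1, Co2Centralizer.mem_cent.2 ⟨by rw [leechU_eq]; exact co2_fix c.1.2, by
    rw [← coe_z0]; exact congrArg Subtype.val (mem_C0.1 c.2).eq⟩⟩
  invFun g := ⟨⟨g.1, MulAction.mem_stabilizer_iff.2 (by
      rw [← leechU_eq]; exact (Co2Centralizer.mem_cent.1 g.2).1)⟩, mem_C0.2 (Subtype.ext (by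
      show (g.1 : Co0) * (z0 : Co0) = (z0 : Co0) * g.1
      rw [coe_z0]; exact (Co2Centralizer.mem_cent.1 g.2).2))⟩
  left_inv _ := rfl
  right_inv _ := rfl
  map_mul' _ _ := rfl

/-- The map onto the symplectic group. -/
noncomputable def phi0 : ↥C0 →* G0 := Co2Centralizer.phi.comp centEquiv.toMonoidHom

theorem phi0_surjective : Function.Surjective phi0 :=
  Co2Centralizer.phi_surjective.comp centEquiv.surjective

theorem natCard_phi0_ker : Nat.card phi0.ker = 512 := by
  have e : phi0.ker = Co2Centralizer.phi.ker.comap centEquiv.toMonoidHom := rfl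
  rw [e, Subgroup.comap_equiv_eq_map_symm', Subgroup.card_map_of_injective centEquiv.symm.injective,
    Co2Centralizer.natCard_ker_phi]
  norm_num

theorem natCard_centralizer_z0 : Nat.card C0 = 512 * 1451520 := by
  rw [Subgroup.card_eq_card_quotient_mul_card_subgroup phi0.ker,
    Nat.card_congr (QuotientGroup.quotientKerEquivOfSurjective phi0 phi0_surjective).toEquiv,
    natCard_sp6, natCard_phi0_ker]

/-- The subgroup of the coded vectors. -/
noncomputable def X0 : Subgroup ↥co2Group where
  carrier := {g | ∃ v < 512, xel v = g}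
  one_mem' := ⟨0, by norm_num, xel_zero⟩
  mul_mem' := by
    rintro _ _ ⟨a, ha, rfl⟩ ⟨b, hb, rfl⟩
    exact ⟨qm a b, qm_bound ha hb, (xel_mul a hb).symm⟩
  inv_mem' := by
    rintro _ ⟨a, ha, rfl⟩
    refine ⟨invQ a, (invQ_spec a ha).1, (inv_eq_of_mul_eq_one_right ?_).symm⟩
    rw [xel_mul a (invQ_spec a ha).1, (invQ_spec a ha).2.2, xel_zero]

theorem word_conj_X0 : ∀ (l : List (Fin 7)), ∀ x ∈ X0, (l.map hel).prod * x * ((l.map hel).prod)⁻¹ ∈ X0
  | [], x, hx => by simpa using hx
  | j :: l, x, hx => by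
    obtain ⟨v, hv, e⟩ := word_conj_X0 l x hx
    refine ⟨sig j.val v, sig_lt j.val j.isLt v hv, ?_⟩
    rw [← hel_conj j v hv, e, List.map_cons, List.prod_cons, mul_inv_rev]
    group

/-- The homomorphism from the symplectic group. -/
noncomputable def hom0 : G0 →* ↥co2Group := Classical.choose (exists_hom hel hel_rel hel_long)

theorem hom0_T (j : Fin 7) : hom0 (T j) = hel j :=
  Classical.choose_spec (exists_hom hel hel_rel hel_long) j

theorem hom0_wp (l : List (Fin 7)) : hom0 (wp l) = (l.map hel).prod := by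
  rw [wp, map_list_prod, List.map_map]
  congr 2
  exact funext hom0_T

theorem hel_not_mem_check : ∀ v < 512, diffW [0] (xw v) = true := by decide +kernel

theorem hom0_mem_X0 {g : G0} (h : hom0 g ∈ X0) : g = 1 := by
  have := isSimpleGroup_G0
  have hN : (X0.comap hom0).Normal := ⟨fun a ha k => by
    obtain ⟨l, rfl⟩ := exists_wp k
    rw [Subgroup.mem_comap, map_mul, map_mul, map_inv, hom0_wp]
    exact word_conj_X0 l _ ha⟩
  rcases hN.eq_bot_or_eq_top with e | e
  · have h' : g ∈ X0.comap hom0 := h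
    rwa [e, Subgroup.mem_bot] at h'
  · exfalso
    have h' : T 0 ∈ X0.comap hom0 := e ▸ Subgroup.mem_top _
    rw [Subgroup.mem_comap, hom0_T] at h'
    obtain ⟨v, hv, he⟩ := h'
    refine ne_of_diffW (hel_not_mem_check v hv) ?_
    rw [val_single, ← xel_eq, he]
    rfl

theorem xel_commute {v : ℕ} (hv : v < 512) : Commute (xel v) z0 := by
  have h : xel v * xel 256 = xel 256 * xel v := by
    rw [xel_mul v (by norm_num), xel_mul 256 hv, (qm_zero v hv).2.2.1, (qm_zero v hv).2.2.2]
  rwa [xel_centre] at h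

theorem hom0_commute (g : G0) : Commute (hom0 g) z0 := by
  obtain ⟨l, rfl⟩ := exists_wp g
  rw [hom0_wp]
  induction l with
  | nil => simp
  | cons j l ih =>
    rw [List.map_cons, List.prod_cons]
    exact (letter_z0 (show j.val < 16 from lt_trans j.isLt (by norm_num))).mul_left ih

theorem exists_split {c : ↥co2Group} (hc : Commute c z0) :
    ∃ v < 512, ∃ g : G0, xel v * hom0 g = c := by
  have := finite_co2
  let f : Fin 512 × G0 → ↥C0 := fun p =>
    ⟨xel p.1.val * hom0 p.2, mem_C0.2 ((xel_commute p.1.isLt).mul_left (hom0_commute p.2))⟩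
  have hf : Function.Injective f := by
    rintro ⟨a, g⟩ ⟨b, k⟩ e
    have e' : xel a.val * hom0 g = xel b.val * hom0 k := congrArg Subtype.val e
    have hk : hom0 (k * g⁻¹) = (xel b.val)⁻¹ * xel a.val := by
      rw [map_mul, map_inv]
      calc hom0 k * (hom0 g)⁻¹ = (xel b.val)⁻¹ * (xel b.val * hom0 k) * (hom0 g)⁻¹ := by group
        _ = _ := by rw [← e']; group
    have h1 : k * g⁻¹ = 1 :=
      hom0_mem_X0 (hk ▸ X0.mul_mem (X0.inv_mem ⟨_, b.isLt, rfl⟩) ⟨_, a.isLt, rfl⟩)
    have hkg : k = g := mul_inv_eq_one.1 h1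
    subst hkg
    exact Prod.ext (Fin.ext (xel_inj a.isLt b.isLt (mul_right_cancel e'))) rfl
  have hbij : Function.Bijective f := (Nat.bijective_iff_injective_and_card f).2
    ⟨hf, by rw [Nat.card_prod, Nat.card_fin, natCard_sp6, natCard_centralizer_z0]⟩
  obtain ⟨⟨v, g⟩, e⟩ := hbij.2 ⟨c, mem_C0.2 hc⟩
  exact ⟨v.val, v.isLt, g, congrArg Subtype.val e⟩

theorem gen0 (c : ↥co2Group) (hc : Commute c z0) :
    c ∈ Subgroup.closure (Set.range hel ∪ xel '' Set.Iio 512) := by
  obtain ⟨v, hv, g, rfl⟩ := exists_split hc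
  refine mul_mem (Subgroup.subset_closure (Or.inr ⟨v, hv, rfl⟩)) ?_
  obtain ⟨l, rfl⟩ := exists_wp g
  rw [hom0_wp]
  refine Subgroup.list_prod_mem _ fun x hx => ?_
  obtain ⟨j, -, rfl⟩ := List.mem_map.1 hx
  exact Subgroup.subset_closure (Or.inl ⟨j, rfl⟩)

theorem natCard_X0 : Nat.card X0 = 512 := by
  let f : Fin 512 → ↥X0 := fun v => ⟨xel v.val, v.val, v.isLt, rfl⟩
  have hf : Function.Bijective f :=
    ⟨fun a b e => Fin.ext (xel_inj a.isLt b.isLt (congrArg Subtype.val e)),
      fun ⟨x, v, hv, e⟩ => ⟨⟨v, hv⟩, Subtype.ext e⟩⟩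
  rw [← Nat.card_congr (Equiv.ofBijective f hf), Nat.card_fin]

theorem X0_le : X0 ≤ C0 := by
  rintro _ ⟨v, hv, rfl⟩
  exact mem_C0.2 (xel_commute hv)

theorem pCore_eq_X0 : (Cfsg.pCore 2 ↥C0).map C0.subtype = X0 := by
  have := finite_co2
  have : Fact (Nat.Prime 2) := ⟨Nat.prime_two⟩
  have hk : IsPGroup 2 phi0.ker := IsPGroup.of_card (natCard_phi0_ker.trans (by norm_num : 512 = 2 ^ 9))
  have hp := Co2Centralizer.pCore_eq_ker phi0 phi0_surjective hk
  have hN : (X0.subgroupOf C0).Normal := ⟨fun x hx c => by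
    obtain ⟨w, hw, g, hcg⟩ := exists_split (mem_C0.1 c.2)
    obtain ⟨l, rfl⟩ := exists_wp g
    rw [Subgroup.mem_subgroupOf, Subgroup.coe_mul, Subgroup.coe_mul, Subgroup.coe_inv, ← hcg, hom0_wp,
      mul_inv_rev]
    have h1 := word_conj_X0 l _ (Subgroup.mem_subgroupOf.1 hx)
    have h2 : xel w ∈ X0 := ⟨w, hw, rfl⟩
    have h3 := X0.mul_mem (X0.mul_mem h2 h1) (X0.inv_mem h2)
    simpa [mul_assoc] using h3⟩
  have hcard : Nat.card (X0.subgroupOf C0) = 512 := by
    rw [Nat.card_congr (Subgroup.subgroupOfEquivOfLe X0_le).toEquiv, natCard_X0]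
  have hle : X0.subgroupOf C0 ≤ Cfsg.pCore 2 ↥C0 :=
    Cores.le_pCore hN (IsPGroup.of_card (hcard.trans (by norm_num : 512 = 2 ^ 9)))
  rw [← Subgroup.eq_of_le_of_card_ge hle (by rw [hp, natCard_phi0_ker, hcard]),
    Subgroup.map_subgroupOf_eq_of_le X0_le]

theorem orderOf_z0 : orderOf z0 = 2 :=
  orderOf_eq_prime (by rw [pow_two]; exact letter_sq 15)
    (by rw [← xel_centre]; exact xel_ne_one (by norm_num) (by norm_num))

/-- The coordinates of the centraliser. -/
noncomputable def base0 : Base z0 where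
  h := hel
  x := xel
  z_ord := orderOf_z0
  h_z j := letter_z0 (lt_trans j.isLt (by norm_num))
  x_mul a _ b hb := xel_mul a hb
  x_inj _ ha _ hb := xel_inj ha hb
  x_z := xel_centre
  h_conj := hel_conj
  gen := gen0
  Q_eq c := by
    rw [show Subgroup.centralizer ({z0} : Set ↥co2Group) = C0 from rfl, pCore_eq_X0]
    exact Iff.rfl

theorem base0_h (j : Fin 7) : base0.h j = letter j.val := rfl

theorem base0_x_bit {S : ℕ} (hS : S < 8) : base0.x (1 <<< S) = letter (7 + S) := xel_bit hS

theorem base0_x_word (v : ℕ) : base0.x v = val (xw v) := xel_eq v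

/-- The lifts satisfy the relations of Sp6(2). -/
theorem split0 : base0.Split where
  rel := hel_rel
  long := hel_long

end Cfsg.Agent.CoTwoCert
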