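import Cfsg.Agent.Lib.CoTwoCert.Coords
import Cfsg.Agent.Lib.Leech.Co2Simple

/-!
# The checks on the seventeen matrices
-/

set_option autoImplicit false
set_option maxRecDepth 100000
set_option Elab.async false

namespace Cfsg.Agent.CoTwoCert

open Leech

/-- The transpose of a list of rows. -/
def trL (L : List (List ℤ)) : List (List ℤ) :=
  (List.range 24).map fun j => L.map fun r => r.getD j 0

/-- The rows of a letter, times eight. -/
noncomputable def rowsOf (k : ℕ) : List (List ℤ) := Data.mats.getD k []

/-- The code of a letter. -/
def codeOf (k : ℕ) : ℕ := Data.codes.getD k 0

/-- The fixed vector as a list. -/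
def uList : List ℤ := 4 :: List.replicate 22 0 ++ [4]

/-- An integral matrix times eight is an element of the stabiliser with the given code. -/
noncomputable def letterOK (k : ℕ) : Bool :=
  matOKB (rowsOf k) (trL (rowsOf k)) (packCols (rowsOf k)) (packCols (trL (rowsOf k)))
      (genLists.map (imgL (rowsOf k))) (genLists.map (imgL (trL (rowsOf k)))) &&
    ((rowsOf k).map fun r => dotL r uList) == uList.map (8 * ·) &&
    colsOK (rowsOf k) (codeOf k)

theorem letter_ok0 : letterOK 0 = true := by decide +kernel

theorem letter_ok1 : letterOK 1 = true := by decide +kernel

theorem letter_ok2 : letterOK 2 = true := by decide +kernel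

theorem letter_ok3 : letterOK 3 = true := by decide +kernel

theorem letter_ok4 : letterOK 4 = true := by decide +kernel

theorem letter_ok5 : letterOK 5 = true := by decide +kernel

theorem letter_ok6 : letterOK 6 = true := by decide +kernel

theorem letter_ok7 : letterOK 7 = true := by decide +kernel

theorem letter_ok8 : letterOK 8 = true := by decide +kernel

theorem letter_ok9 : letterOK 9 = true := by decide +kernel

theorem letter_ok10 : letterOK 10 = true := by decide +kernel

theorem letter_ok11 : letterOK 11 = true := by decide +kernel

theorem letter_ok12 : letterOK 12 = true := by decide +kernel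

theorem letter_ok13 : letterOK 13 = true := by decide +kernel

theorem letter_ok14 : letterOK 14 = true := by decide +kernel

theorem letter_ok15 : letterOK 15 = true := by decide +kernel

theorem letter_ok16 : letterOK 16 = true := by decide +kernel

theorem letters_ok : ∀ k < 17, letterOK k = true := by
  intro k hk
  interval_cases k
  exacts [letter_ok0, letter_ok1, letter_ok2, letter_ok3, letter_ok4, letter_ok5, letter_ok6, letter_ok7, letter_ok8, letter_ok9, letter_ok10, letter_ok11, letter_ok12, letter_ok13, letter_ok14, letter_ok15, letter_ok16]

end Cfsg.Agent.CoTwoCert
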