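/-
The seven lifts, the eight generators of the extraspecial group, the central involution and the involution
outside as lattice matrices, and as codes modulo two (owner: helper57; generated from tools/co2).

* `mats` : matrices times eight, in the order s0..s6, e0..e7, z, g;  `codes` : the images of the basis modulo two,
  twenty four bits each
* `basis`, `dual` : a basis of the lattice and the dual basis times eight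
-/
import Cfsg.Agent.Lib.Leech.MatEl

set_option autoImplicit false
set_option maxRecDepth 10000
set_option maxHeartbeats 1000000

namespace Cfsg.Agent.CoTwoCert.Data

open Cfsg.Agent.Leech

/-- The matrices, times eight. -/
noncomputable def mats : List (List (List ℤ)) := [
  [[ep2, ep2, ep2, ep2, ep0, em2, ep0, ep0, ep0, ep0, ep0, ep0, ep0, ep0, em2, ep0, ep0, em2, ep0, ep0, ep0, ep0, ep0, ep6],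
   [ep2, em6, ep2, ep2, ep0, em2, ep0, ep0, ep0, ep0, ep0, ep0, ep0, ep0, em2, ep0, ep0, em2, ep0, ep0, ep0, ep0, ep0, em2],
   [ep2, ep2, em6, ep2, ep0, em2, ep0, ep0, ep0, ep0, ep0, ep0, ep0, ep0, em2, ep0, ep0, em2, ep0, ep0, ep0, ep0, ep0, em2],
   [ep2, ep2, ep2, em6, ep0, em2, ep0, ep0, ep0, ep0, ep0, ep0, ep0, ep0, em2, ep0, ep0, em2, ep0, ep0, ep0, ep0, ep0, em2],
   [ep0, ep0, ep0, ep0, em2, ep0, em2, em2, ep2, em2, em2, em2, em2, em2, ep0, ep2, ep2, ep0, em2, ep2, em2, em2, em2, ep0],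
   [em2, em2, em2, em2, ep0, em6, ep0, ep0, ep0, ep0, ep0, ep0, ep0, ep0, ep2, ep0, ep0, ep2, ep0, ep0, ep0, ep0, ep0, ep2],
   [ep0, ep0, ep0, ep0, em2, ep0, em2, em2, em2, em2, em2, em2, em2, ep2, ep0, em2, em2, ep0, ep2, em2, ep2, ep2, em2, ep0],
   [ep0, ep0, ep0, ep0, em2, ep0, em2, em2, ep2, ep2, ep2, ep2, ep2, ep2, ep0, ep2, em2, ep0, em2, em2, em2, ep2, em2, ep0],
   [ep0, ep0, ep0, ep0, ep2, ep0, em2, ep2, em2, ep2, em2, ep2, em2, ep2, ep0, em2, ep2, ep0, em2, ep2, em2, ep2, em2, ep0],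
   [ep0, ep0, ep0, ep0, em2, ep0, em2, ep2, ep2, em2, ep2, ep2, em2, ep2, ep0, em2, ep2, ep0, ep2, em2, em2, em2, ep2, ep0],
   [ep0, ep0, ep0, ep0, em2, ep0, em2, ep2, em2, ep2, em2, em2, ep2, ep2, ep0, ep2, ep2, ep0, em2, em2, ep2, em2, ep2, ep0],
   [ep0, ep0, ep0, ep0, em2, ep0, em2, ep2, ep2, ep2, em2, em2, ep2, em2, ep0, em2, em2, ep0, ep2, ep2, em2, ep2, ep2, ep0],
   [ep0, ep0, ep0, ep0, em2, ep0, em2, ep2, em2, em2, ep2, ep2, em2, em2, ep0, ep2, em2, ep0, em2, ep2, ep2, ep2, ep2, ep0],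
   [ep0, ep0, ep0, ep0, em2, ep0, ep2, ep2, ep2, ep2, ep2, em2, em2, em2, ep0, em2, ep2, ep0, em2, em2, ep2, ep2, em2, ep0],
   [em2, em2, em2, em2, ep0, ep2, ep0, ep0, ep0, ep0, ep0, ep0, ep0, ep0, em6, ep0, ep0, ep2, ep0, ep0, ep0, ep0, ep0, ep2],
   [ep0, ep0, ep0, ep0, ep2, ep0, em2, ep2, em2, em2, ep2, em2, ep2, em2, ep0, em2, em2, ep0, em2, em2, em2, em2, em2, ep0],
   [ep0, ep0, ep0, ep0, ep2, ep0, em2, em2, ep2, ep2, ep2, em2, em2, ep2, ep0, em2, em2, ep0, em2, ep2, ep2, em2, ep2, ep0],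
   [em2, em2, em2, em2, ep0, ep2, ep0, ep0, ep0, ep0, ep0, ep0, ep0, ep0, ep2, ep0, ep0, em6, ep0, ep0, ep0, ep0, ep0, ep2],
   [ep0, ep0, ep0, ep0, em2, ep0, ep2, em2, em2, ep2, em2, ep2, em2, em2, ep0, em2, em2, ep0, em2, em2, em2, em2, ep2, ep0],
   [ep0, ep0, ep0, ep0, ep2, ep0, em2, em2, ep2, em2, em2, ep2, ep2, em2, ep0, em2, ep2, ep0, em2, em2, ep2, ep2, ep2, ep0],
   [ep0, ep0, ep0, ep0, em2, ep0, ep2, em2, em2, em2, ep2, em2, ep2, ep2, ep0, em2, ep2, ep0, em2, ep2, em2, ep2, ep2, ep0],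
   [ep0, ep0, ep0, ep0, em2, ep0, ep2, ep2, ep2, em2, em2, ep2, ep2, ep2, ep0, em2, em2, ep0, em2, ep2, ep2, em2, em2, ep0],
   [ep0, ep0, ep0, ep0, em2, ep0, em2, em2, em2, ep2, ep2, ep2, ep2, em2, ep0, em2, ep2, ep0, ep2, ep2, ep2, em2, em2, ep0],
   [ep6, em2, em2, em2, ep0, ep2, ep0, ep0, ep0, ep0, ep0, ep0, ep0, ep0, ep2, ep0, ep0, ep2, ep0, ep0, ep0, ep0, ep0, ep2]],
  [[ep0, ep0, ep0, ep0, ep0, ep0, ep0, ep0, ep0, ep0, ep0, ep0, ep0, ep0, ep0, ep0, ep0, ep0, ep0, ep0, ep0, ep0, ep0, ep8],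
   [ep0, em8, ep0, ep0, ep0, ep0, ep0, ep0, ep0, ep0, ep0, ep0, ep0, ep0, ep0, ep0, ep0, ep0, ep0, ep0, ep0, ep0, ep0, ep0],
   [ep0, ep0, em8, ep0, ep0, ep0, ep0, ep0, ep0, ep0, ep0, ep0, ep0, ep0, ep0, ep0, ep0, ep0, ep0, ep0, ep0, ep0, ep0, ep0],
   [ep0, ep0, ep0, ep0, ep0, ep0, ep0, ep0, ep0, ep0, ep0, ep0, ep0, ep0, ep0, ep0, ep0, ep8, ep0, ep0, ep0, ep0, ep0, ep0],
   [ep0, ep0, ep0, ep0, em8, ep0, ep0, ep0, ep0, ep0, ep0, ep0, ep0, ep0, ep0, ep0, ep0, ep0, ep0, ep0, ep0, ep0, ep0, ep0],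
   [ep0, ep0, ep0, ep0, ep0, em8, ep0, ep0, ep0, ep0, ep0, ep0, ep0, ep0, ep0, ep0, ep0, ep0, ep0, ep0, ep0, ep0, ep0, ep0],
   [ep0, ep0, ep0, ep0, ep0, ep0, ep0, ep0, ep0, ep0, ep0, em8, ep0, ep0, ep0, ep0, ep0, ep0, ep0, ep0, ep0, ep0, ep0, ep0],
   [ep0, ep0, ep0, ep0, ep0, ep0, ep0, ep0, ep8, ep0, ep0, ep0, ep0, ep0, ep0, ep0, ep0, ep0, ep0, ep0, ep0, ep0, ep0, ep0],
   [ep0, ep0, ep0, ep0, ep0, ep0, ep0, ep8, ep0, ep0, ep0, ep0, ep0, ep0, ep0, ep0, ep0, ep0, ep0, ep0, ep0, ep0, ep0, ep0],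
   [ep0, ep0, ep0, ep0, ep0, ep0, ep0, ep0, ep0, ep0, ep0, ep0, ep0, ep0, ep0, ep0, ep0, ep0, ep0, ep0, em8, ep0, ep0, ep0],
   [ep0, ep0, ep0, ep0, ep0, ep0, ep0, ep0, ep0, ep0, em8, ep0, ep0, ep0, ep0, ep0, ep0, ep0, ep0, ep0, ep0, ep0, ep0, ep0],
   [ep0, ep0, ep0, ep0, ep0, ep0, em8, ep0, ep0, ep0, ep0, ep0, ep0, ep0, ep0, ep0, ep0, ep0, ep0, ep0, ep0, ep0, ep0, ep0],
   [ep0, ep0, ep0, ep0, ep0, ep0, ep0, ep0, ep0, ep0, ep0, ep0, ep0, ep0, ep0, ep0, ep0, ep0, ep0, ep8, ep0, ep0, ep0, ep0],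
   [ep0, ep0, ep0, ep0, ep0, ep0, ep0, ep0, ep0, ep0, ep0, ep0, ep0, ep0, ep0, ep0, ep0, ep0, ep0, ep0, ep0, ep0, em8, ep0],
   [ep0, ep0, ep0, ep0, ep0, ep0, ep0, ep0, ep0, ep0, ep0, ep0, ep0, ep0, em8, ep0, ep0, ep0, ep0, ep0, ep0, ep0, ep0, ep0],
   [ep0, ep0, ep0, ep0, ep0, ep0, ep0, ep0, ep0, ep0, ep0, ep0, ep0, ep0, ep0, em8, ep0, ep0, ep0, ep0, ep0, ep0, ep0, ep0],
   [ep0, ep0, ep0, ep0, ep0, ep0, ep0, ep0, ep0, ep0, ep0, ep0, ep0, ep0, ep0, ep0, em8, ep0, ep0, ep0, ep0, ep0, ep0, ep0],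
   [ep0, ep0, ep0, ep8, ep0, ep0, ep0, ep0, ep0, ep0, ep0, ep0, ep0, ep0, ep0, ep0, ep0, ep0, ep0, ep0, ep0, ep0, ep0, ep0],
   [ep0, ep0, ep0, ep0, ep0, ep0, ep0, ep0, ep0, ep0, ep0, ep0, ep0, ep0, ep0, ep0, ep0, ep0, ep0, ep0, ep0, em8, ep0, ep0],
   [ep0, ep0, ep0, ep0, ep0, ep0, ep0, ep0, ep0, ep0, ep0, ep0, ep8, ep0, ep0, ep0, ep0, ep0, ep0, ep0, ep0, ep0, ep0, ep0],
   [ep0, ep0, ep0, ep0, ep0, ep0, ep0, ep0, ep0, em8, ep0, ep0, ep0, ep0, ep0, ep0, ep0, ep0, ep0, ep0, ep0, ep0, ep0, ep0],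
   [ep0, ep0, ep0, ep0, ep0, ep0, ep0, ep0, ep0, ep0, ep0, ep0, ep0, ep0, ep0, ep0, ep0, ep0, em8, ep0, ep0, ep0, ep0, ep0],
   [ep0, ep0, ep0, ep0, ep0, ep0, ep0, ep0, ep0, ep0, ep0, ep0, ep0, em8, ep0, ep0, ep0, ep0, ep0, ep0, ep0, ep0, ep0, ep0],
   [ep8, ep0, ep0, ep0, ep0, ep0, ep0, ep0, ep0, ep0, ep0, ep0, ep0, ep0, ep0, ep0, ep0, ep0, ep0, ep0, ep0, ep0, ep0, ep0]],
  [[ep8, ep0, ep0, ep0, ep0, ep0, ep0, ep0, ep0, ep0, ep0, ep0, ep0, ep0, ep0, ep0, ep0, ep0, ep0, ep0, ep0, ep0, ep0, ep0],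
   [ep0, em8, ep0, ep0, ep0, ep0, ep0, ep0, ep0, ep0, ep0, ep0, ep0, ep0, ep0, ep0, ep0, ep0, ep0, ep0, ep0, ep0, ep0, ep0],
   [ep0, ep0, em8, ep0, ep0, ep0, ep0, ep0, ep0, ep0, ep0, ep0, ep0, ep0, ep0, ep0, ep0, ep0, ep0, ep0, ep0, ep0, ep0, ep0],
   [ep0, ep0, ep0, em8, ep0, ep0, ep0, ep0, ep0, ep0, ep0, ep0, ep0, ep0, ep0, ep0, ep0, ep0, ep0, ep0, ep0, ep0, ep0, ep0],
   [ep0, ep0, ep0, ep0, em8, ep0, ep0, ep0, ep0, ep0, ep0, ep0, ep0, ep0, ep0, ep0, ep0, ep0, ep0, ep0, ep0, ep0, ep0, ep0],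
   [ep0, ep0, ep0, ep0, ep0, em8, ep0, ep0, ep0, ep0, ep0, ep0, ep0, ep0, ep0, ep0, ep0, ep0, ep0, ep0, ep0, ep0, ep0, ep0],
   [ep0, ep0, ep0, ep0, ep0, ep0, ep8, ep0, ep0, ep0, ep0, ep0, ep0, ep0, ep0, ep0, ep0, ep0, ep0, ep0, ep0, ep0, ep0, ep0],
   [ep0, ep0, ep0, ep0, ep0, ep0, ep0, ep8, ep0, ep0, ep0, ep0, ep0, ep0, ep0, ep0, ep0, ep0, ep0, ep0, ep0, ep0, ep0, ep0],
   [ep0, ep0, ep0, ep0, ep0, ep0, ep0, ep0, ep8, ep0, ep0, ep0, ep0, ep0, ep0, ep0, ep0, ep0, ep0, ep0, ep0, ep0, ep0, ep0],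
   [ep0, ep0, ep0, ep0, ep0, ep0, ep0, ep0, ep0, ep8, ep0, ep0, ep0, ep0, ep0, ep0, ep0, ep0, ep0, ep0, ep0, ep0, ep0, ep0],
   [ep0, ep0, ep0, ep0, ep0, ep0, ep0, ep0, ep0, ep0, em8, ep0, ep0, ep0, ep0, ep0, ep0, ep0, ep0, ep0, ep0, ep0, ep0, ep0],
   [ep0, ep0, ep0, ep0, ep0, ep0, ep0, ep0, ep0, ep0, ep0, ep8, ep0, ep0, ep0, ep0, ep0, ep0, ep0, ep0, ep0, ep0, ep0, ep0],
   [ep0, ep0, ep0, ep0, ep0, ep0, ep0, ep0, ep0, ep0, ep0, ep0, em8, ep0, ep0, ep0, ep0, ep0, ep0, ep0, ep0, ep0, ep0, ep0],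
   [ep0, ep0, ep0, ep0, ep0, ep0, ep0, ep0, ep0, ep0, ep0, ep0, ep0, em8, ep0, ep0, ep0, ep0, ep0, ep0, ep0, ep0, ep0, ep0],
   [ep0, ep0, ep0, ep0, ep0, ep0, ep0, ep0, ep0, ep0, ep0, ep0, ep0, ep0, em8, ep0, ep0, ep0, ep0, ep0, ep0, ep0, ep0, ep0],
   [ep0, ep0, ep0, ep0, ep0, ep0, ep0, ep0, ep0, ep0, ep0, ep0, ep0, ep0, ep0, em8, ep0, ep0, ep0, ep0, ep0, ep0, ep0, ep0],
   [ep0, ep0, ep0, ep0, ep0, ep0, ep0, ep0, ep0, ep0, ep0, ep0, ep0, ep0, ep0, ep0, em8, ep0, ep0, ep0, ep0, ep0, ep0, ep0],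
   [ep0, ep0, ep0, ep0, ep0, ep0, ep0, ep0, ep0, ep0, ep0, ep0, ep0, ep0, ep0, ep0, ep0, em8, ep0, ep0, ep0, ep0, ep0, ep0],
   [ep0, ep0, ep0, ep0, ep0, ep0, ep0, ep0, ep0, ep0, ep0, ep0, ep0, ep0, ep0, ep0, ep0, ep0, em8, ep0, ep0, ep0, ep0, ep0],
   [ep0, ep0, ep0, ep0, ep0, ep0, ep0, ep0, ep0, ep0, ep0, ep0, ep0, ep0, ep0, ep0, ep0, ep0, ep0, em8, ep0, ep0, ep0, ep0],
   [ep0, ep0, ep0, ep0, ep0, ep0, ep0, ep0, ep0, ep0, ep0, ep0, ep0, ep0, ep0, ep0, ep0, ep0, ep0, ep0, ep8, ep0, ep0, ep0],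
   [ep0, ep0, ep0, ep0, ep0, ep0, ep0, ep0, ep0, ep0, ep0, ep0, ep0, ep0, ep0, ep0, ep0, ep0, ep0, ep0, ep0, em8, ep0, ep0],
   [ep0, ep0, ep0, ep0, ep0, ep0, ep0, ep0, ep0, ep0, ep0, ep0, ep0, ep0, ep0, ep0, ep0, ep0, ep0, ep0, ep0, ep0, em8, ep0],
   [ep0, ep0, ep0, ep0, ep0, ep0, ep0, ep0, ep0, ep0, ep0, ep0, ep0, ep0, ep0, ep0, ep0, ep0, ep0, ep0, ep0, ep0, ep0, ep8]],
  [[ep2, em2, ep2, em2, ep0, ep2, ep0, ep0, ep0, ep0, ep0, ep0, ep0, ep0, ep2, ep0, ep0, em2, ep0, ep0, ep0, ep0, ep0, ep6],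
   [em2, em6, em2, ep2, ep0, em2, ep0, ep0, ep0, ep0, ep0, ep0, ep0, ep0, em2, ep0, ep0, ep2, ep0, ep0, ep0, ep0, ep0, ep2],
   [ep2, em2, em6, em2, ep0, ep2, ep0, ep0, ep0, ep0, ep0, ep0, ep0, ep0, ep2, ep0, ep0, em2, ep0, ep0, ep0, ep0, ep0, em2],
   [em2, ep2, em2, em6, ep0, em2, ep0, ep0, ep0, ep0, ep0, ep0, ep0, ep0, em2, ep0, ep0, ep2, ep0, ep0, ep0, ep0, ep0, ep2],
   [ep0, ep0, ep0, ep0, em2, ep0, em2, em2, ep2, em2, ep2, em2, ep2, ep2, ep0, ep2, ep2, ep0, em2, ep2, em2, ep2, em2, ep0],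
   [ep2, em2, ep2, em2, ep0, em6, ep0, ep0, ep0, ep0, ep0, ep0, ep0, ep0, ep2, ep0, ep0, em2, ep0, ep0, ep0, ep0, ep0, em2],
   [ep0, ep0, ep0, ep0, em2, ep0, em2, em2, em2, em2, ep2, em2, ep2, em2, ep0, em2, em2, ep0, ep2, em2, ep2, em2, em2, ep0],
   [ep0, ep0, ep0, ep0, em2, ep0, em2, em2, ep2, ep2, em2, ep2, em2, em2, ep0, ep2, em2, ep0, em2, em2, em2, em2, em2, ep0],
   [ep0, ep0, ep0, ep0, ep2, ep0, em2, ep2, em2, ep2, ep2, ep2, ep2, em2, ep0, em2, ep2, ep0, em2, ep2, em2, em2, em2, ep0],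
   [ep0, ep0, ep0, ep0, em2, ep0, em2, ep2, ep2, em2, em2, ep2, ep2, em2, ep0, em2, ep2, ep0, ep2, em2, em2, ep2, ep2, ep0],
   [ep0, ep0, ep0, ep0, ep2, ep0, ep2, em2, ep2, em2, em2, ep2, ep2, ep2, ep0, em2, em2, ep0, ep2, ep2, em2, em2, em2, ep0],
   [ep0, ep0, ep0, ep0, em2, ep0, em2, ep2, ep2, ep2, ep2, em2, em2, ep2, ep0, em2, em2, ep0, ep2, ep2, em2, em2, ep2, ep0],
   [ep0, ep0, ep0, ep0, ep2, ep0, ep2, em2, ep2, ep2, ep2, em2, em2, em2, ep0, em2, ep2, ep0, ep2, em2, em2, ep2, em2, ep0],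
   [ep0, ep0, ep0, ep0, ep2, ep0, em2, em2, em2, em2, ep2, ep2, em2, em2, ep0, ep2, em2, ep0, ep2, ep2, em2, ep2, ep2, ep0],
   [ep2, em2, ep2, em2, ep0, ep2, ep0, ep0, ep0, ep0, ep0, ep0, ep0, ep0, em6, ep0, ep0, em2, ep0, ep0, ep0, ep0, ep0, em2],
   [ep0, ep0, ep0, ep0, ep2, ep0, em2, ep2, em2, em2, em2, em2, em2, ep2, ep0, em2, em2, ep0, em2, em2, em2, ep2, em2, ep0],
   [ep0, ep0, ep0, ep0, ep2, ep0, em2, em2, ep2, ep2, em2, em2, ep2, em2, ep0, em2, em2, ep0, em2, ep2, ep2, ep2, ep2, ep0],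
   [em2, ep2, em2, ep2, ep0, em2, ep0, ep0, ep0, ep0, ep0, ep0, ep0, ep0, em2, ep0, ep0, em6, ep0, ep0, ep0, ep0, ep0, ep2],
   [ep0, ep0, ep0, ep0, em2, ep0, ep2, em2, em2, ep2, ep2, ep2, ep2, ep2, ep0, em2, em2, ep0, em2, em2, em2, ep2, ep2, ep0],
   [ep0, ep0, ep0, ep0, ep2, ep0, em2, em2, ep2, em2, ep2, ep2, em2, ep2, ep0, em2, ep2, ep0, em2, em2, ep2, em2, ep2, ep0],
   [ep0, ep0, ep0, ep0, em2, ep0, ep2, em2, em2, em2, em2, em2, em2, em2, ep0, em2, ep2, ep0, em2, ep2, em2, em2, ep2, ep0],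
   [ep0, ep0, ep0, ep0, ep2, ep0, em2, em2, em2, ep2, em2, em2, ep2, ep2, ep0, ep2, ep2, ep0, ep2, em2, em2, em2, ep2, ep0],
   [ep0, ep0, ep0, ep0, em2, ep0, em2, em2, em2, ep2, em2, ep2, em2, ep2, ep0, em2, ep2, ep0, ep2, ep2, ep2, ep2, em2, ep0],
   [ep6, ep2, em2, ep2, ep0, em2, ep0, ep0, ep0, ep0, ep0, ep0, ep0, ep0, em2, ep0, ep0, ep2, ep0, ep0, ep0, ep0, ep0, ep2]],
  [[ep0, ep0, ep0, ep0, ep0, ep0, ep0, ep0, ep0, ep0, ep0, ep0, ep0, ep0, ep0, ep0, ep0, ep0, ep0, ep0, ep0, ep0, ep0, ep8],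
   [ep0, em8, ep0, ep0, ep0, ep0, ep0, ep0, ep0, ep0, ep0, ep0, ep0, ep0, ep0, ep0, ep0, ep0, ep0, ep0, ep0, ep0, ep0, ep0],
   [ep0, ep0, ep0, ep0, ep0, ep0, ep0, ep0, ep0, ep0, ep0, ep0, ep0, ep0, ep8, ep0, ep0, ep0, ep0, ep0, ep0, ep0, ep0, ep0],
   [ep0, ep0, ep0, em8, ep0, ep0, ep0, ep0, ep0, ep0, ep0, ep0, ep0, ep0, ep0, ep0, ep0, ep0, ep0, ep0, ep0, ep0, ep0, ep0],
   [ep0, ep0, ep0, ep0, em8, ep0, ep0, ep0, ep0, ep0, ep0, ep0, ep0, ep0, ep0, ep0, ep0, ep0, ep0, ep0, ep0, ep0, ep0, ep0],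
   [ep0, ep0, ep0, ep0, ep0, em8, ep0, ep0, ep0, ep0, ep0, ep0, ep0, ep0, ep0, ep0, ep0, ep0, ep0, ep0, ep0, ep0, ep0, ep0],
   [ep0, ep0, ep0, ep0, ep0, ep0, ep0, ep0, ep0, em8, ep0, ep0, ep0, ep0, ep0, ep0, ep0, ep0, ep0, ep0, ep0, ep0, ep0, ep0],
   [ep0, ep0, ep0, ep0, ep0, ep0, ep0, ep0, ep8, ep0, ep0, ep0, ep0, ep0, ep0, ep0, ep0, ep0, ep0, ep0, ep0, ep0, ep0, ep0],
   [ep0, ep0, ep0, ep0, ep0, ep0, ep0, ep8, ep0, ep0, ep0, ep0, ep0, ep0, ep0, ep0, ep0, ep0, ep0, ep0, ep0, ep0, ep0, ep0],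
   [ep0, ep0, ep0, ep0, ep0, ep0, em8, ep0, ep0, ep0, ep0, ep0, ep0, ep0, ep0, ep0, ep0, ep0, ep0, ep0, ep0, ep0, ep0, ep0],
   [ep0, ep0, ep0, ep0, ep0, ep0, ep0, ep0, ep0, ep0, ep0, ep0, ep0, ep0, ep0, ep0, ep8, ep0, ep0, ep0, ep0, ep0, ep0, ep0],
   [ep0, ep0, ep0, ep0, ep0, ep0, ep0, ep0, ep0, ep0, ep0, ep0, ep0, ep0, ep0, ep0, ep0, ep0, ep0, ep0, em8, ep0, ep0, ep0],
   [ep0, ep0, ep0, ep0, ep0, ep0, ep0, ep0, ep0, ep0, ep0, ep0, em8, ep0, ep0, ep0, ep0, ep0, ep0, ep0, ep0, ep0, ep0, ep0],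
   [ep0, ep0, ep0, ep0, ep0, ep0, ep0, ep0, ep0, ep0, ep0, ep0, ep0, ep0, ep0, ep0, ep0, ep0, em8, ep0, ep0, ep0, ep0, ep0],
   [ep0, ep0, ep8, ep0, ep0, ep0, ep0, ep0, ep0, ep0, ep0, ep0, ep0, ep0, ep0, ep0, ep0, ep0, ep0, ep0, ep0, ep0, ep0, ep0],
   [ep0, ep0, ep0, ep0, ep0, ep0, ep0, ep0, ep0, ep0, ep0, ep0, ep0, ep0, ep0, em8, ep0, ep0, ep0, ep0, ep0, ep0, ep0, ep0],
   [ep0, ep0, ep0, ep0, ep0, ep0, ep0, ep0, ep0, ep0, ep8, ep0, ep0, ep0, ep0, ep0, ep0, ep0, ep0, ep0, ep0, ep0, ep0, ep0],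
   [ep0, ep0, ep0, ep0, ep0, ep0, ep0, ep0, ep0, ep0, ep0, ep0, ep0, ep0, ep0, ep0, ep0, em8, ep0, ep0, ep0, ep0, ep0, ep0],
   [ep0, ep0, ep0, ep0, ep0, ep0, ep0, ep0, ep0, ep0, ep0, ep0, ep0, em8, ep0, ep0, ep0, ep0, ep0, ep0, ep0, ep0, ep0, ep0],
   [ep0, ep0, ep0, ep0, ep0, ep0, ep0, ep0, ep0, ep0, ep0, ep0, ep0, ep0, ep0, ep0, ep0, ep0, ep0, em8, ep0, ep0, ep0, ep0],
   [ep0, ep0, ep0, ep0, ep0, ep0, ep0, ep0, ep0, ep0, ep0, em8, ep0, ep0, ep0, ep0, ep0, ep0, ep0, ep0, ep0, ep0, ep0, ep0],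
   [ep0, ep0, ep0, ep0, ep0, ep0, ep0, ep0, ep0, ep0, ep0, ep0, ep0, ep0, ep0, ep0, ep0, ep0, ep0, ep0, ep0, ep0, em8, ep0],
   [ep0, ep0, ep0, ep0, ep0, ep0, ep0, ep0, ep0, ep0, ep0, ep0, ep0, ep0, ep0, ep0, ep0, ep0, ep0, ep0, ep0, em8, ep0, ep0],
   [ep8, ep0, ep0, ep0, ep0, ep0, ep0, ep0, ep0, ep0, ep0, ep0, ep0, ep0, ep0, ep0, ep0, ep0, ep0, ep0, ep0, ep0, ep0, ep0]],
  [[ep0, ep0, ep0, ep0, ep0, ep0, ep0, ep0, ep0, ep0, ep0, ep0, ep0, ep0, ep0, ep0, ep0, ep0, ep0, ep0, ep0, ep0, ep0, ep8],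
   [ep0, ep0, ep0, ep0, ep0, ep0, ep0, ep0, ep0, ep0, ep0, ep0, ep0, ep0, ep8, ep0, ep0, ep0, ep0, ep0, ep0, ep0, ep0, ep0],
   [ep0, ep0, em8, ep0, ep0, ep0, ep0, ep0, ep0, ep0, ep0, ep0, ep0, ep0, ep0, ep0, ep0, ep0, ep0, ep0, ep0, ep0, ep0, ep0],
   [ep0, ep0, ep0, em8, ep0, ep0, ep0, ep0, ep0, ep0, ep0, ep0, ep0, ep0, ep0, ep0, ep0, ep0, ep0, ep0, ep0, ep0, ep0, ep0],
   [ep0, ep0, ep0, ep0, em8, ep0, ep0, ep0, ep0, ep0, ep0, ep0, ep0, ep0, ep0, ep0, ep0, ep0, ep0, ep0, ep0, ep0, ep0, ep0],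
   [ep0, ep0, ep0, ep0, ep0, em8, ep0, ep0, ep0, ep0, ep0, ep0, ep0, ep0, ep0, ep0, ep0, ep0, ep0, ep0, ep0, ep0, ep0, ep0],
   [ep0, ep0, ep0, ep0, ep0, ep0, ep0, ep0, ep0, ep0, ep0, em8, ep0, ep0, ep0, ep0, ep0, ep0, ep0, ep0, ep0, ep0, ep0, ep0],
   [ep0, ep0, ep0, ep0, ep0, ep0, ep0, ep0, ep0, ep0, ep0, ep0, ep0, ep0, ep0, ep0, ep0, ep0, ep0, ep0, em8, ep0, ep0, ep0],
   [ep0, ep0, ep0, ep0, ep0, ep0, ep0, ep0, ep0, ep8, ep0, ep0, ep0, ep0, ep0, ep0, ep0, ep0, ep0, ep0, ep0, ep0, ep0, ep0],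
   [ep0, ep0, ep0, ep0, ep0, ep0, ep0, ep0, ep8, ep0, ep0, ep0, ep0, ep0, ep0, ep0, ep0, ep0, ep0, ep0, ep0, ep0, ep0, ep0],
   [ep0, ep0, ep0, ep0, ep0, ep0, ep0, ep0, ep0, ep0, em8, ep0, ep0, ep0, ep0, ep0, ep0, ep0, ep0, ep0, ep0, ep0, ep0, ep0],
   [ep0, ep0, ep0, ep0, ep0, ep0, em8, ep0, ep0, ep0, ep0, ep0, ep0, ep0, ep0, ep0, ep0, ep0, ep0, ep0, ep0, ep0, ep0, ep0],
   [ep0, ep0, ep0, ep0, ep0, ep0, ep0, ep0, ep0, ep0, ep0, ep0, ep0, em8, ep0, ep0, ep0, ep0, ep0, ep0, ep0, ep0, ep0, ep0],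
   [ep0, ep0, ep0, ep0, ep0, ep0, ep0, ep0, ep0, ep0, ep0, ep0, em8, ep0, ep0, ep0, ep0, ep0, ep0, ep0, ep0, ep0, ep0, ep0],
   [ep0, ep8, ep0, ep0, ep0, ep0, ep0, ep0, ep0, ep0, ep0, ep0, ep0, ep0, ep0, ep0, ep0, ep0, ep0, ep0, ep0, ep0, ep0, ep0],
   [ep0, ep0, ep0, ep0, ep0, ep0, ep0, ep0, ep0, ep0, ep0, ep0, ep0, ep0, ep0, ep0, em8, ep0, ep0, ep0, ep0, ep0, ep0, ep0],
   [ep0, ep0, ep0, ep0, ep0, ep0, ep0, ep0, ep0, ep0, ep0, ep0, ep0, ep0, ep0, em8, ep0, ep0, ep0, ep0, ep0, ep0, ep0, ep0],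
   [ep0, ep0, ep0, ep0, ep0, ep0, ep0, ep0, ep0, ep0, ep0, ep0, ep0, ep0, ep0, ep0, ep0, em8, ep0, ep0, ep0, ep0, ep0, ep0],
   [ep0, ep0, ep0, ep0, ep0, ep0, ep0, ep0, ep0, ep0, ep0, ep0, ep0, ep0, ep0, ep0, ep0, ep0, em8, ep0, ep0, ep0, ep0, ep0],
   [ep0, ep0, ep0, ep0, ep0, ep0, ep0, ep0, ep0, ep0, ep0, ep0, ep0, ep0, ep0, ep0, ep0, ep0, ep0, ep0, ep0, ep0, ep8, ep0],
   [ep0, ep0, ep0, ep0, ep0, ep0, ep0, em8, ep0, ep0, ep0, ep0, ep0, ep0, ep0, ep0, ep0, ep0, ep0, ep0, ep0, ep0, ep0, ep0],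
   [ep0, ep0, ep0, ep0, ep0, ep0, ep0, ep0, ep0, ep0, ep0, ep0, ep0, ep0, ep0, ep0, ep0, ep0, ep0, ep0, ep0, em8, ep0, ep0],
   [ep0, ep0, ep0, ep0, ep0, ep0, ep0, ep0, ep0, ep0, ep0, ep0, ep0, ep0, ep0, ep0, ep0, ep0, ep0, ep8, ep0, ep0, ep0, ep0],
   [ep8, ep0, ep0, ep0, ep0, ep0, ep0, ep0, ep0, ep0, ep0, ep0, ep0, ep0, ep0, ep0, ep0, ep0, ep0, ep0, ep0, ep0, ep0, ep0]],
  [[ep0, ep0, ep0, ep0, ep0, ep0, ep0, ep0, ep0, ep0, ep0, ep0, ep0, ep0, ep0, ep0, ep0, ep0, ep0, ep0, ep0, ep0, ep0, ep8],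
   [ep0, ep0, ep0, ep0, ep0, ep8, ep0, ep0, ep0, ep0, ep0, ep0, ep0, ep0, ep0, ep0, ep0, ep0, ep0, ep0, ep0, ep0, ep0, ep0],
   [ep0, ep0, em8, ep0, ep0, ep0, ep0, ep0, ep0, ep0, ep0, ep0, ep0, ep0, ep0, ep0, ep0, ep0, ep0, ep0, ep0, ep0, ep0, ep0],
   [ep0, ep0, ep0, em8, ep0, ep0, ep0, ep0, ep0, ep0, ep0, ep0, ep0, ep0, ep0, ep0, ep0, ep0, ep0, ep0, ep0, ep0, ep0, ep0],
   [ep0, ep0, ep0, ep0, ep0, ep0, ep0, ep0, ep0, ep0, ep0, ep0, ep0, ep0, ep0, ep8, ep0, ep0, ep0, ep0, ep0, ep0, ep0, ep0],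
   [ep0, ep8, ep0, ep0, ep0, ep0, ep0, ep0, ep0, ep0, ep0, ep0, ep0, ep0, ep0, ep0, ep0, ep0, ep0, ep0, ep0, ep0, ep0, ep0],
   [ep0, ep0, ep0, ep0, ep0, ep0, ep0, ep0, ep0, ep0, ep0, ep0, ep0, ep0, ep0, ep0, ep0, ep0, ep0, ep0, ep8, ep0, ep0, ep0],
   [ep0, ep0, ep0, ep0, ep0, ep0, ep0, ep0, ep8, ep0, ep0, ep0, ep0, ep0, ep0, ep0, ep0, ep0, ep0, ep0, ep0, ep0, ep0, ep0],
   [ep0, ep0, ep0, ep0, ep0, ep0, ep0, ep8, ep0, ep0, ep0, ep0, ep0, ep0, ep0, ep0, ep0, ep0, ep0, ep0, ep0, ep0, ep0, ep0],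
   [ep0, ep0, ep0, ep0, ep0, ep0, ep0, ep0, ep0, ep0, ep0, ep8, ep0, ep0, ep0, ep0, ep0, ep0, ep0, ep0, ep0, ep0, ep0, ep0],
   [ep0, ep0, ep0, ep0, ep0, ep0, ep0, ep0, ep0, ep0, em8, ep0, ep0, ep0, ep0, ep0, ep0, ep0, ep0, ep0, ep0, ep0, ep0, ep0],
   [ep0, ep0, ep0, ep0, ep0, ep0, ep0, ep0, ep0, ep8, ep0, ep0, ep0, ep0, ep0, ep0, ep0, ep0, ep0, ep0, ep0, ep0, ep0, ep0],
   [ep0, ep0, ep0, ep0, ep0, ep0, ep0, ep0, ep0, ep0, ep0, ep0, em8, ep0, ep0, ep0, ep0, ep0, ep0, ep0, ep0, ep0, ep0, ep0],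
   [ep0, ep0, ep0, ep0, ep0, ep0, ep0, ep0, ep0, ep0, ep0, ep0, ep0, ep0, ep0, ep0, ep0, ep0, ep0, ep0, ep0, ep8, ep0, ep0],
   [ep0, ep0, ep0, ep0, ep0, ep0, ep0, ep0, ep0, ep0, ep0, ep0, ep0, ep0, em8, ep0, ep0, ep0, ep0, ep0, ep0, ep0, ep0, ep0],
   [ep0, ep0, ep0, ep0, ep8, ep0, ep0, ep0, ep0, ep0, ep0, ep0, ep0, ep0, ep0, ep0, ep0, ep0, ep0, ep0, ep0, ep0, ep0, ep0],
   [ep0, ep0, ep0, ep0, ep0, ep0, ep0, ep0, ep0, ep0, ep0, ep0, ep0, ep0, ep0, ep0, em8, ep0, ep0, ep0, ep0, ep0, ep0, ep0],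
   [ep0, ep0, ep0, ep0, ep0, ep0, ep0, ep0, ep0, ep0, ep0, ep0, ep0, ep0, ep0, ep0, ep0, em8, ep0, ep0, ep0, ep0, ep0, ep0],
   [ep0, ep0, ep0, ep0, ep0, ep0, ep0, ep0, ep0, ep0, ep0, ep0, ep0, ep0, ep0, ep0, ep0, ep0, ep0, ep0, ep0, ep0, ep8, ep0],
   [ep0, ep0, ep0, ep0, ep0, ep0, ep0, ep0, ep0, ep0, ep0, ep0, ep0, ep0, ep0, ep0, ep0, ep0, ep0, em8, ep0, ep0, ep0, ep0],
   [ep0, ep0, ep0, ep0, ep0, ep0, ep8, ep0, ep0, ep0, ep0, ep0, ep0, ep0, ep0, ep0, ep0, ep0, ep0, ep0, ep0, ep0, ep0, ep0],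
   [ep0, ep0, ep0, ep0, ep0, ep0, ep0, ep0, ep0, ep0, ep0, ep0, ep0, ep8, ep0, ep0, ep0, ep0, ep0, ep0, ep0, ep0, ep0, ep0],
   [ep0, ep0, ep0, ep0, ep0, ep0, ep0, ep0, ep0, ep0, ep0, ep0, ep0, ep0, ep0, ep0, ep0, ep0, ep8, ep0, ep0, ep0, ep0, ep0],
   [ep8, ep0, ep0, ep0, ep0, ep0, ep0, ep0, ep0, ep0, ep0, ep0, ep0, ep0, ep0, ep0, ep0, ep0, ep0, ep0, ep0, ep0, ep0, ep0]],
  [[ep8, ep0, ep0, ep0, ep0, ep0, ep0, ep0, ep0, ep0, ep0, ep0, ep0, ep0, ep0, ep0, ep0, ep0, ep0, ep0, ep0, ep0, ep0, ep0],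
   [ep0, ep8, ep0, ep0, ep0, ep0, ep0, ep0, ep0, ep0, ep0, ep0, ep0, ep0, ep0, ep0, ep0, ep0, ep0, ep0, ep0, ep0, ep0, ep0],
   [ep0, ep0, ep8, ep0, ep0, ep0, ep0, ep0, ep0, ep0, ep0, ep0, ep0, ep0, ep0, ep0, ep0, ep0, ep0, ep0, ep0, ep0, ep0, ep0],
   [ep0, ep0, ep0, ep8, ep0, ep0, ep0, ep0, ep0, ep0, ep0, ep0, ep0, ep0, ep0, ep0, ep0, ep0, ep0, ep0, ep0, ep0, ep0, ep0],
   [ep0, ep0, ep0, ep0, em8, ep0, ep0, ep0, ep0, ep0, ep0, ep0, ep0, ep0, ep0, ep0, ep0, ep0, ep0, ep0, ep0, ep0, ep0, ep0],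
   [ep0, ep0, ep0, ep0, ep0, ep8, ep0, ep0, ep0, ep0, ep0, ep0, ep0, ep0, ep0, ep0, ep0, ep0, ep0, ep0, ep0, ep0, ep0, ep0],
   [ep0, ep0, ep0, ep0, ep0, ep0, em8, ep0, ep0, ep0, ep0, ep0, ep0, ep0, ep0, ep0, ep0, ep0, ep0, ep0, ep0, ep0, ep0, ep0],
   [ep0, ep0, ep0, ep0, ep0, ep0, ep0, em8, ep0, ep0, ep0, ep0, ep0, ep0, ep0, ep0, ep0, ep0, ep0, ep0, ep0, ep0, ep0, ep0],
   [ep0, ep0, ep0, ep0, ep0, ep0, ep0, ep0, em8, ep0, ep0, ep0, ep0, ep0, ep0, ep0, ep0, ep0, ep0, ep0, ep0, ep0, ep0, ep0],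
   [ep0, ep0, ep0, ep0, ep0, ep0, ep0, ep0, ep0, ep8, ep0, ep0, ep0, ep0, ep0, ep0, ep0, ep0, ep0, ep0, ep0, ep0, ep0, ep0],
   [ep0, ep0, ep0, ep0, ep0, ep0, ep0, ep0, ep0, ep0, ep8, ep0, ep0, ep0, ep0, ep0, ep0, ep0, ep0, ep0, ep0, ep0, ep0, ep0],
   [ep0, ep0, ep0, ep0, ep0, ep0, ep0, ep0, ep0, ep0, ep0, ep8, ep0, ep0, ep0, ep0, ep0, ep0, ep0, ep0, ep0, ep0, ep0, ep0],
   [ep0, ep0, ep0, ep0, ep0, ep0, ep0, ep0, ep0, ep0, ep0, ep0, ep8, ep0, ep0, ep0, ep0, ep0, ep0, ep0, ep0, ep0, ep0, ep0],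
   [ep0, ep0, ep0, ep0, ep0, ep0, ep0, ep0, ep0, ep0, ep0, ep0, ep0, ep8, ep0, ep0, ep0, ep0, ep0, ep0, ep0, ep0, ep0, ep0],
   [ep0, ep0, ep0, ep0, ep0, ep0, ep0, ep0, ep0, ep0, ep0, ep0, ep0, ep0, ep8, ep0, ep0, ep0, ep0, ep0, ep0, ep0, ep0, ep0],
   [ep0, ep0, ep0, ep0, ep0, ep0, ep0, ep0, ep0, ep0, ep0, ep0, ep0, ep0, ep0, em8, ep0, ep0, ep0, ep0, ep0, ep0, ep0, ep0],
   [ep0, ep0, ep0, ep0, ep0, ep0, ep0, ep0, ep0, ep0, ep0, ep0, ep0, ep0, ep0, ep0, ep8, ep0, ep0, ep0, ep0, ep0, ep0, ep0],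
   [ep0, ep0, ep0, ep0, ep0, ep0, ep0, ep0, ep0, ep0, ep0, ep0, ep0, ep0, ep0, ep0, ep0, ep8, ep0, ep0, ep0, ep0, ep0, ep0],
   [ep0, ep0, ep0, ep0, ep0, ep0, ep0, ep0, ep0, ep0, ep0, ep0, ep0, ep0, ep0, ep0, ep0, ep0, em8, ep0, ep0, ep0, ep0, ep0],
   [ep0, ep0, ep0, ep0, ep0, ep0, ep0, ep0, ep0, ep0, ep0, ep0, ep0, ep0, ep0, ep0, ep0, ep0, ep0, ep8, ep0, ep0, ep0, ep0],
   [ep0, ep0, ep0, ep0, ep0, ep0, ep0, ep0, ep0, ep0, ep0, ep0, ep0, ep0, ep0, ep0, ep0, ep0, ep0, ep0, em8, ep0, ep0, ep0],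
   [ep0, ep0, ep0, ep0, ep0, ep0, ep0, ep0, ep0, ep0, ep0, ep0, ep0, ep0, ep0, ep0, ep0, ep0, ep0, ep0, ep0, ep8, ep0, ep0],
   [ep0, ep0, ep0, ep0, ep0, ep0, ep0, ep0, ep0, ep0, ep0, ep0, ep0, ep0, ep0, ep0, ep0, ep0, ep0, ep0, ep0, ep0, em8, ep0],
   [ep0, ep0, ep0, ep0, ep0, ep0, ep0, ep0, ep0, ep0, ep0, ep0, ep0, ep0, ep0, ep0, ep0, ep0, ep0, ep0, ep0, ep0, ep0, ep8]],
  [[ep8, ep0, ep0, ep0, ep0, ep0, ep0, ep0, ep0, ep0, ep0, ep0, ep0, ep0, ep0, ep0, ep0, ep0, ep0, ep0, ep0, ep0, ep0, ep0],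
   [ep0, ep8, ep0, ep0, ep0, ep0, ep0, ep0, ep0, ep0, ep0, ep0, ep0, ep0, ep0, ep0, ep0, ep0, ep0, ep0, ep0, ep0, ep0, ep0],
   [ep0, ep0, ep8, ep0, ep0, ep0, ep0, ep0, ep0, ep0, ep0, ep0, ep0, ep0, ep0, ep0, ep0, ep0, ep0, ep0, ep0, ep0, ep0, ep0],
   [ep0, ep0, ep0, ep8, ep0, ep0, ep0, ep0, ep0, ep0, ep0, ep0, ep0, ep0, ep0, ep0, ep0, ep0, ep0, ep0, ep0, ep0, ep0, ep0],
   [ep0, ep0, ep0, ep0, ep0, ep0, ep0, ep8, ep0, ep0, ep0, ep0, ep0, ep0, ep0, ep0, ep0, ep0, ep0, ep0, ep0, ep0, ep0, ep0],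
   [ep0, ep0, ep0, ep0, ep0, ep8, ep0, ep0, ep0, ep0, ep0, ep0, ep0, ep0, ep0, ep0, ep0, ep0, ep0, ep0, ep0, ep0, ep0, ep0],
   [ep0, ep0, ep0, ep0, ep0, ep0, ep0, ep0, ep0, ep0, ep0, ep0, ep0, ep0, ep0, ep0, ep0, ep0, ep0, ep0, ep0, ep0, ep8, ep0],
   [ep0, ep0, ep0, ep0, ep8, ep0, ep0, ep0, ep0, ep0, ep0, ep0, ep0, ep0, ep0, ep0, ep0, ep0, ep0, ep0, ep0, ep0, ep0, ep0],
   [ep0, ep0, ep0, ep0, ep0, ep0, ep0, ep0, ep0, ep0, ep0, ep0, ep0, ep0, ep0, ep8, ep0, ep0, ep0, ep0, ep0, ep0, ep0, ep0],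
   [ep0, ep0, ep0, ep0, ep0, ep0, ep0, ep0, ep0, ep0, ep0, em8, ep0, ep0, ep0, ep0, ep0, ep0, ep0, ep0, ep0, ep0, ep0, ep0],
   [ep0, ep0, ep0, ep0, ep0, ep0, ep0, ep0, ep0, ep0, ep0, ep0, em8, ep0, ep0, ep0, ep0, ep0, ep0, ep0, ep0, ep0, ep0, ep0],
   [ep0, ep0, ep0, ep0, ep0, ep0, ep0, ep0, ep0, em8, ep0, ep0, ep0, ep0, ep0, ep0, ep0, ep0, ep0, ep0, ep0, ep0, ep0, ep0],
   [ep0, ep0, ep0, ep0, ep0, ep0, ep0, ep0, ep0, ep0, em8, ep0, ep0, ep0, ep0, ep0, ep0, ep0, ep0, ep0, ep0, ep0, ep0, ep0],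
   [ep0, ep0, ep0, ep0, ep0, ep0, ep0, ep0, ep0, ep0, ep0, ep0, ep0, ep0, ep0, ep0, ep0, ep0, ep0, ep0, ep0, em8, ep0, ep0],
   [ep0, ep0, ep0, ep0, ep0, ep0, ep0, ep0, ep0, ep0, ep0, ep0, ep0, ep0, ep8, ep0, ep0, ep0, ep0, ep0, ep0, ep0, ep0, ep0],
   [ep0, ep0, ep0, ep0, ep0, ep0, ep0, ep0, ep8, ep0, ep0, ep0, ep0, ep0, ep0, ep0, ep0, ep0, ep0, ep0, ep0, ep0, ep0, ep0],
   [ep0, ep0, ep0, ep0, ep0, ep0, ep0, ep0, ep0, ep0, ep0, ep0, ep0, ep0, ep0, ep0, ep0, ep0, ep0, em8, ep0, ep0, ep0, ep0],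
   [ep0, ep0, ep0, ep0, ep0, ep0, ep0, ep0, ep0, ep0, ep0, ep0, ep0, ep0, ep0, ep0, ep0, ep8, ep0, ep0, ep0, ep0, ep0, ep0],
   [ep0, ep0, ep0, ep0, ep0, ep0, ep0, ep0, ep0, ep0, ep0, ep0, ep0, ep0, ep0, ep0, ep0, ep0, ep0, ep0, ep8, ep0, ep0, ep0],
   [ep0, ep0, ep0, ep0, ep0, ep0, ep0, ep0, ep0, ep0, ep0, ep0, ep0, ep0, ep0, ep0, em8, ep0, ep0, ep0, ep0, ep0, ep0, ep0],
   [ep0, ep0, ep0, ep0, ep0, ep0, ep0, ep0, ep0, ep0, ep0, ep0, ep0, ep0, ep0, ep0, ep0, ep0, ep8, ep0, ep0, ep0, ep0, ep0],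
   [ep0, ep0, ep0, ep0, ep0, ep0, ep0, ep0, ep0, ep0, ep0, ep0, ep0, em8, ep0, ep0, ep0, ep0, ep0, ep0, ep0, ep0, ep0, ep0],
   [ep0, ep0, ep0, ep0, ep0, ep0, ep8, ep0, ep0, ep0, ep0, ep0, ep0, ep0, ep0, ep0, ep0, ep0, ep0, ep0, ep0, ep0, ep0, ep0],
   [ep0, ep0, ep0, ep0, ep0, ep0, ep0, ep0, ep0, ep0, ep0, ep0, ep0, ep0, ep0, ep0, ep0, ep0, ep0, ep0, ep0, ep0, ep0, ep8]],
  [[ep8, ep0, ep0, ep0, ep0, ep0, ep0, ep0, ep0, ep0, ep0, ep0, ep0, ep0, ep0, ep0, ep0, ep0, ep0, ep0, ep0, ep0, ep0, ep0],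
   [ep0, ep8, ep0, ep0, ep0, ep0, ep0, ep0, ep0, ep0, ep0, ep0, ep0, ep0, ep0, ep0, ep0, ep0, ep0, ep0, ep0, ep0, ep0, ep0],
   [ep0, ep0, ep8, ep0, ep0, ep0, ep0, ep0, ep0, ep0, ep0, ep0, ep0, ep0, ep0, ep0, ep0, ep0, ep0, ep0, ep0, ep0, ep0, ep0],
   [ep0, ep0, ep0, ep8, ep0, ep0, ep0, ep0, ep0, ep0, ep0, ep0, ep0, ep0, ep0, ep0, ep0, ep0, ep0, ep0, ep0, ep0, ep0, ep0],
   [ep0, ep0, ep0, ep0, ep8, ep0, ep0, ep0, ep0, ep0, ep0, ep0, ep0, ep0, ep0, ep0, ep0, ep0, ep0, ep0, ep0, ep0, ep0, ep0],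
   [ep0, ep0, ep0, ep0, ep0, ep8, ep0, ep0, ep0, ep0, ep0, ep0, ep0, ep0, ep0, ep0, ep0, ep0, ep0, ep0, ep0, ep0, ep0, ep0],
   [ep0, ep0, ep0, ep0, ep0, ep0, em8, ep0, ep0, ep0, ep0, ep0, ep0, ep0, ep0, ep0, ep0, ep0, ep0, ep0, ep0, ep0, ep0, ep0],
   [ep0, ep0, ep0, ep0, ep0, ep0, ep0, ep8, ep0, ep0, ep0, ep0, ep0, ep0, ep0, ep0, ep0, ep0, ep0, ep0, ep0, ep0, ep0, ep0],
   [ep0, ep0, ep0, ep0, ep0, ep0, ep0, ep0, ep8, ep0, ep0, ep0, ep0, ep0, ep0, ep0, ep0, ep0, ep0, ep0, ep0, ep0, ep0, ep0],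
   [ep0, ep0, ep0, ep0, ep0, ep0, ep0, ep0, ep0, em8, ep0, ep0, ep0, ep0, ep0, ep0, ep0, ep0, ep0, ep0, ep0, ep0, ep0, ep0],
   [ep0, ep0, ep0, ep0, ep0, ep0, ep0, ep0, ep0, ep0, ep8, ep0, ep0, ep0, ep0, ep0, ep0, ep0, ep0, ep0, ep0, ep0, ep0, ep0],
   [ep0, ep0, ep0, ep0, ep0, ep0, ep0, ep0, ep0, ep0, ep0, em8, ep0, ep0, ep0, ep0, ep0, ep0, ep0, ep0, ep0, ep0, ep0, ep0],
   [ep0, ep0, ep0, ep0, ep0, ep0, ep0, ep0, ep0, ep0, ep0, ep0, ep8, ep0, ep0, ep0, ep0, ep0, ep0, ep0, ep0, ep0, ep0, ep0],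
   [ep0, ep0, ep0, ep0, ep0, ep0, ep0, ep0, ep0, ep0, ep0, ep0, ep0, em8, ep0, ep0, ep0, ep0, ep0, ep0, ep0, ep0, ep0, ep0],
   [ep0, ep0, ep0, ep0, ep0, ep0, ep0, ep0, ep0, ep0, ep0, ep0, ep0, ep0, ep8, ep0, ep0, ep0, ep0, ep0, ep0, ep0, ep0, ep0],
   [ep0, ep0, ep0, ep0, ep0, ep0, ep0, ep0, ep0, ep0, ep0, ep0, ep0, ep0, ep0, ep8, ep0, ep0, ep0, ep0, ep0, ep0, ep0, ep0],
   [ep0, ep0, ep0, ep0, ep0, ep0, ep0, ep0, ep0, ep0, ep0, ep0, ep0, ep0, ep0, ep0, ep8, ep0, ep0, ep0, ep0, ep0, ep0, ep0],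
   [ep0, ep0, ep0, ep0, ep0, ep0, ep0, ep0, ep0, ep0, ep0, ep0, ep0, ep0, ep0, ep0, ep0, ep8, ep0, ep0, ep0, ep0, ep0, ep0],
   [ep0, ep0, ep0, ep0, ep0, ep0, ep0, ep0, ep0, ep0, ep0, ep0, ep0, ep0, ep0, ep0, ep0, ep0, em8, ep0, ep0, ep0, ep0, ep0],
   [ep0, ep0, ep0, ep0, ep0, ep0, ep0, ep0, ep0, ep0, ep0, ep0, ep0, ep0, ep0, ep0, ep0, ep0, ep0, ep8, ep0, ep0, ep0, ep0],
   [ep0, ep0, ep0, ep0, ep0, ep0, ep0, ep0, ep0, ep0, ep0, ep0, ep0, ep0, ep0, ep0, ep0, ep0, ep0, ep0, em8, ep0, ep0, ep0],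
   [ep0, ep0, ep0, ep0, ep0, ep0, ep0, ep0, ep0, ep0, ep0, ep0, ep0, ep0, ep0, ep0, ep0, ep0, ep0, ep0, ep0, em8, ep0, ep0],
   [ep0, ep0, ep0, ep0, ep0, ep0, ep0, ep0, ep0, ep0, ep0, ep0, ep0, ep0, ep0, ep0, ep0, ep0, ep0, ep0, ep0, ep0, em8, ep0],
   [ep0, ep0, ep0, ep0, ep0, ep0, ep0, ep0, ep0, ep0, ep0, ep0, ep0, ep0, ep0, ep0, ep0, ep0, ep0, ep0, ep0, ep0, ep0, ep8]],
  [[ep8, ep0, ep0, ep0, ep0, ep0, ep0, ep0, ep0, ep0, ep0, ep0, ep0, ep0, ep0, ep0, ep0, ep0, ep0, ep0, ep0, ep0, ep0, ep0],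
   [ep0, ep8, ep0, ep0, ep0, ep0, ep0, ep0, ep0, ep0, ep0, ep0, ep0, ep0, ep0, ep0, ep0, ep0, ep0, ep0, ep0, ep0, ep0, ep0],
   [ep0, ep0, ep8, ep0, ep0, ep0, ep0, ep0, ep0, ep0, ep0, ep0, ep0, ep0, ep0, ep0, ep0, ep0, ep0, ep0, ep0, ep0, ep0, ep0],
   [ep0, ep0, ep0, ep8, ep0, ep0, ep0, ep0, ep0, ep0, ep0, ep0, ep0, ep0, ep0, ep0, ep0, ep0, ep0, ep0, ep0, ep0, ep0, ep0],
   [ep0, ep0, ep0, ep0, ep0, ep0, ep0, ep0, ep0, ep0, ep0, ep0, ep0, ep0, ep0, em8, ep0, ep0, ep0, ep0, ep0, ep0, ep0, ep0],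
   [ep0, ep0, ep0, ep0, ep0, ep8, ep0, ep0, ep0, ep0, ep0, ep0, ep0, ep0, ep0, ep0, ep0, ep0, ep0, ep0, ep0, ep0, ep0, ep0],
   [ep0, ep0, ep0, ep0, ep0, ep0, ep0, ep0, ep0, ep0, ep0, ep0, ep0, ep0, ep0, ep0, ep0, ep0, em8, ep0, ep0, ep0, ep0, ep0],
   [ep0, ep0, ep0, ep0, ep0, ep0, ep0, ep0, em8, ep0, ep0, ep0, ep0, ep0, ep0, ep0, ep0, ep0, ep0, ep0, ep0, ep0, ep0, ep0],
   [ep0, ep0, ep0, ep0, ep0, ep0, ep0, em8, ep0, ep0, ep0, ep0, ep0, ep0, ep0, ep0, ep0, ep0, ep0, ep0, ep0, ep0, ep0, ep0],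
   [ep0, ep0, ep0, ep0, ep0, ep0, ep0, ep0, ep0, ep0, ep0, ep0, ep0, em8, ep0, ep0, ep0, ep0, ep0, ep0, ep0, ep0, ep0, ep0],
   [ep0, ep0, ep0, ep0, ep0, ep0, ep0, ep0, ep0, ep0, ep0, ep0, ep0, ep0, ep0, ep0, em8, ep0, ep0, ep0, ep0, ep0, ep0, ep0],
   [ep0, ep0, ep0, ep0, ep0, ep0, ep0, ep0, ep0, ep0, ep0, ep0, ep0, ep0, ep0, ep0, ep0, ep0, ep0, ep0, ep0, em8, ep0, ep0],
   [ep0, ep0, ep0, ep0, ep0, ep0, ep0, ep0, ep0, ep0, ep0, ep0, ep0, ep0, ep0, ep0, ep0, ep0, ep0, em8, ep0, ep0, ep0, ep0],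
   [ep0, ep0, ep0, ep0, ep0, ep0, ep0, ep0, ep0, em8, ep0, ep0, ep0, ep0, ep0, ep0, ep0, ep0, ep0, ep0, ep0, ep0, ep0, ep0],
   [ep0, ep0, ep0, ep0, ep0, ep0, ep0, ep0, ep0, ep0, ep0, ep0, ep0, ep0, ep8, ep0, ep0, ep0, ep0, ep0, ep0, ep0, ep0, ep0],
   [ep0, ep0, ep0, ep0, em8, ep0, ep0, ep0, ep0, ep0, ep0, ep0, ep0, ep0, ep0, ep0, ep0, ep0, ep0, ep0, ep0, ep0, ep0, ep0],
   [ep0, ep0, ep0, ep0, ep0, ep0, ep0, ep0, ep0, ep0, em8, ep0, ep0, ep0, ep0, ep0, ep0, ep0, ep0, ep0, ep0, ep0, ep0, ep0],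
   [ep0, ep0, ep0, ep0, ep0, ep0, ep0, ep0, ep0, ep0, ep0, ep0, ep0, ep0, ep0, ep0, ep0, ep8, ep0, ep0, ep0, ep0, ep0, ep0],
   [ep0, ep0, ep0, ep0, ep0, ep0, em8, ep0, ep0, ep0, ep0, ep0, ep0, ep0, ep0, ep0, ep0, ep0, ep0, ep0, ep0, ep0, ep0, ep0],
   [ep0, ep0, ep0, ep0, ep0, ep0, ep0, ep0, ep0, ep0, ep0, ep0, em8, ep0, ep0, ep0, ep0, ep0, ep0, ep0, ep0, ep0, ep0, ep0],
   [ep0, ep0, ep0, ep0, ep0, ep0, ep0, ep0, ep0, ep0, ep0, ep0, ep0, ep0, ep0, ep0, ep0, ep0, ep0, ep0, ep0, ep0, em8, ep0],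
   [ep0, ep0, ep0, ep0, ep0, ep0, ep0, ep0, ep0, ep0, ep0, em8, ep0, ep0, ep0, ep0, ep0, ep0, ep0, ep0, ep0, ep0, ep0, ep0],
   [ep0, ep0, ep0, ep0, ep0, ep0, ep0, ep0, ep0, ep0, ep0, ep0, ep0, ep0, ep0, ep0, ep0, ep0, ep0, ep0, em8, ep0, ep0, ep0],
   [ep0, ep0, ep0, ep0, ep0, ep0, ep0, ep0, ep0, ep0, ep0, ep0, ep0, ep0, ep0, ep0, ep0, ep0, ep0, ep0, ep0, ep0, ep0, ep8]],
  [[ep8, ep0, ep0, ep0, ep0, ep0, ep0, ep0, ep0, ep0, ep0, ep0, ep0, ep0, ep0, ep0, ep0, ep0, ep0, ep0, ep0, ep0, ep0, ep0],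
   [ep0, ep8, ep0, ep0, ep0, ep0, ep0, ep0, ep0, ep0, ep0, ep0, ep0, ep0, ep0, ep0, ep0, ep0, ep0, ep0, ep0, ep0, ep0, ep0],
   [ep0, ep0, ep8, ep0, ep0, ep0, ep0, ep0, ep0, ep0, ep0, ep0, ep0, ep0, ep0, ep0, ep0, ep0, ep0, ep0, ep0, ep0, ep0, ep0],
   [ep0, ep0, ep0, ep8, ep0, ep0, ep0, ep0, ep0, ep0, ep0, ep0, ep0, ep0, ep0, ep0, ep0, ep0, ep0, ep0, ep0, ep0, ep0, ep0],
   [ep0, ep0, ep0, ep0, ep8, ep0, ep0, ep0, ep0, ep0, ep0, ep0, ep0, ep0, ep0, ep0, ep0, ep0, ep0, ep0, ep0, ep0, ep0, ep0],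
   [ep0, ep0, ep0, ep0, ep0, ep8, ep0, ep0, ep0, ep0, ep0, ep0, ep0, ep0, ep0, ep0, ep0, ep0, ep0, ep0, ep0, ep0, ep0, ep0],
   [ep0, ep0, ep0, ep0, ep0, ep0, em8, ep0, ep0, ep0, ep0, ep0, ep0, ep0, ep0, ep0, ep0, ep0, ep0, ep0, ep0, ep0, ep0, ep0],
   [ep0, ep0, ep0, ep0, ep0, ep0, ep0, ep8, ep0, ep0, ep0, ep0, ep0, ep0, ep0, ep0, ep0, ep0, ep0, ep0, ep0, ep0, ep0, ep0],
   [ep0, ep0, ep0, ep0, ep0, ep0, ep0, ep0, em8, ep0, ep0, ep0, ep0, ep0, ep0, ep0, ep0, ep0, ep0, ep0, ep0, ep0, ep0, ep0],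
   [ep0, ep0, ep0, ep0, ep0, ep0, ep0, ep0, ep0, em8, ep0, ep0, ep0, ep0, ep0, ep0, ep0, ep0, ep0, ep0, ep0, ep0, ep0, ep0],
   [ep0, ep0, ep0, ep0, ep0, ep0, ep0, ep0, ep0, ep0, ep8, ep0, ep0, ep0, ep0, ep0, ep0, ep0, ep0, ep0, ep0, ep0, ep0, ep0],
   [ep0, ep0, ep0, ep0, ep0, ep0, ep0, ep0, ep0, ep0, ep0, em8, ep0, ep0, ep0, ep0, ep0, ep0, ep0, ep0, ep0, ep0, ep0, ep0],
   [ep0, ep0, ep0, ep0, ep0, ep0, ep0, ep0, ep0, ep0, ep0, ep0, ep8, ep0, ep0, ep0, ep0, ep0, ep0, ep0, ep0, ep0, ep0, ep0],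
   [ep0, ep0, ep0, ep0, ep0, ep0, ep0, ep0, ep0, ep0, ep0, ep0, ep0, ep8, ep0, ep0, ep0, ep0, ep0, ep0, ep0, ep0, ep0, ep0],
   [ep0, ep0, ep0, ep0, ep0, ep0, ep0, ep0, ep0, ep0, ep0, ep0, ep0, ep0, ep8, ep0, ep0, ep0, ep0, ep0, ep0, ep0, ep0, ep0],
   [ep0, ep0, ep0, ep0, ep0, ep0, ep0, ep0, ep0, ep0, ep0, ep0, ep0, ep0, ep0, em8, ep0, ep0, ep0, ep0, ep0, ep0, ep0, ep0],
   [ep0, ep0, ep0, ep0, ep0, ep0, ep0, ep0, ep0, ep0, ep0, ep0, ep0, ep0, ep0, ep0, em8, ep0, ep0, ep0, ep0, ep0, ep0, ep0],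
   [ep0, ep0, ep0, ep0, ep0, ep0, ep0, ep0, ep0, ep0, ep0, ep0, ep0, ep0, ep0, ep0, ep0, ep8, ep0, ep0, ep0, ep0, ep0, ep0],
   [ep0, ep0, ep0, ep0, ep0, ep0, ep0, ep0, ep0, ep0, ep0, ep0, ep0, ep0, ep0, ep0, ep0, ep0, ep8, ep0, ep0, ep0, ep0, ep0],
   [ep0, ep0, ep0, ep0, ep0, ep0, ep0, ep0, ep0, ep0, ep0, ep0, ep0, ep0, ep0, ep0, ep0, ep0, ep0, em8, ep0, ep0, ep0, ep0],
   [ep0, ep0, ep0, ep0, ep0, ep0, ep0, ep0, ep0, ep0, ep0, ep0, ep0, ep0, ep0, ep0, ep0, ep0, ep0, ep0, ep8, ep0, ep0, ep0],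
   [ep0, ep0, ep0, ep0, ep0, ep0, ep0, ep0, ep0, ep0, ep0, ep0, ep0, ep0, ep0, ep0, ep0, ep0, ep0, ep0, ep0, ep8, ep0, ep0],
   [ep0, ep0, ep0, ep0, ep0, ep0, ep0, ep0, ep0, ep0, ep0, ep0, ep0, ep0, ep0, ep0, ep0, ep0, ep0, ep0, ep0, ep0, em8, ep0],
   [ep0, ep0, ep0, ep0, ep0, ep0, ep0, ep0, ep0, ep0, ep0, ep0, ep0, ep0, ep0, ep0, ep0, ep0, ep0, ep0, ep0, ep0, ep0, ep8]],
  [[ep8, ep0, ep0, ep0, ep0, ep0, ep0, ep0, ep0, ep0, ep0, ep0, ep0, ep0, ep0, ep0, ep0, ep0, ep0, ep0, ep0, ep0, ep0, ep0],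
   [ep0, ep8, ep0, ep0, ep0, ep0, ep0, ep0, ep0, ep0, ep0, ep0, ep0, ep0, ep0, ep0, ep0, ep0, ep0, ep0, ep0, ep0, ep0, ep0],
   [ep0, ep0, ep8, ep0, ep0, ep0, ep0, ep0, ep0, ep0, ep0, ep0, ep0, ep0, ep0, ep0, ep0, ep0, ep0, ep0, ep0, ep0, ep0, ep0],
   [ep0, ep0, ep0, ep8, ep0, ep0, ep0, ep0, ep0, ep0, ep0, ep0, ep0, ep0, ep0, ep0, ep0, ep0, ep0, ep0, ep0, ep0, ep0, ep0],
   [ep0, ep0, ep0, ep0, ep0, ep0, ep0, ep0, ep0, ep0, ep0, ep0, ep0, ep0, ep0, ep0, ep0, ep0, ep8, ep0, ep0, ep0, ep0, ep0],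
   [ep0, ep0, ep0, ep0, ep0, ep8, ep0, ep0, ep0, ep0, ep0, ep0, ep0, ep0, ep0, ep0, ep0, ep0, ep0, ep0, ep0, ep0, ep0, ep0],
   [ep0, ep0, ep0, ep0, ep0, ep0, ep0, ep0, ep0, ep0, ep0, ep0, ep0, ep0, ep0, ep8, ep0, ep0, ep0, ep0, ep0, ep0, ep0, ep0],
   [ep0, ep0, ep0, ep0, ep0, ep0, ep0, ep0, ep0, ep0, ep0, ep0, ep0, ep0, ep0, ep0, ep0, ep0, ep0, ep0, ep8, ep0, ep0, ep0],
   [ep0, ep0, ep0, ep0, ep0, ep0, ep0, ep0, ep0, ep0, ep0, ep0, ep0, ep0, ep0, ep0, ep0, ep0, ep0, ep0, ep0, ep0, ep8, ep0],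
   [ep0, ep0, ep0, ep0, ep0, ep0, ep0, ep0, ep0, ep0, ep0, ep0, ep0, ep0, ep0, ep0, ep0, ep0, ep0, ep8, ep0, ep0, ep0, ep0],
   [ep0, ep0, ep0, ep0, ep0, ep0, ep0, ep0, ep0, ep0, ep0, ep0, ep0, ep0, ep0, ep0, ep0, ep0, ep0, ep0, ep0, ep8, ep0, ep0],
   [ep0, ep0, ep0, ep0, ep0, ep0, ep0, ep0, ep0, ep0, ep0, ep0, ep0, ep0, ep0, ep0, ep8, ep0, ep0, ep0, ep0, ep0, ep0, ep0],
   [ep0, ep0, ep0, ep0, ep0, ep0, ep0, ep0, ep0, ep0, ep0, ep0, ep0, ep8, ep0, ep0, ep0, ep0, ep0, ep0, ep0, ep0, ep0, ep0],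
   [ep0, ep0, ep0, ep0, ep0, ep0, ep0, ep0, ep0, ep0, ep0, ep0, ep8, ep0, ep0, ep0, ep0, ep0, ep0, ep0, ep0, ep0, ep0, ep0],
   [ep0, ep0, ep0, ep0, ep0, ep0, ep0, ep0, ep0, ep0, ep0, ep0, ep0, ep0, ep8, ep0, ep0, ep0, ep0, ep0, ep0, ep0, ep0, ep0],
   [ep0, ep0, ep0, ep0, ep0, ep0, ep8, ep0, ep0, ep0, ep0, ep0, ep0, ep0, ep0, ep0, ep0, ep0, ep0, ep0, ep0, ep0, ep0, ep0],
   [ep0, ep0, ep0, ep0, ep0, ep0, ep0, ep0, ep0, ep0, ep0, ep8, ep0, ep0, ep0, ep0, ep0, ep0, ep0, ep0, ep0, ep0, ep0, ep0],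
   [ep0, ep0, ep0, ep0, ep0, ep0, ep0, ep0, ep0, ep0, ep0, ep0, ep0, ep0, ep0, ep0, ep0, ep8, ep0, ep0, ep0, ep0, ep0, ep0],
   [ep0, ep0, ep0, ep0, ep8, ep0, ep0, ep0, ep0, ep0, ep0, ep0, ep0, ep0, ep0, ep0, ep0, ep0, ep0, ep0, ep0, ep0, ep0, ep0],
   [ep0, ep0, ep0, ep0, ep0, ep0, ep0, ep0, ep0, ep8, ep0, ep0, ep0, ep0, ep0, ep0, ep0, ep0, ep0, ep0, ep0, ep0, ep0, ep0],
   [ep0, ep0, ep0, ep0, ep0, ep0, ep0, ep8, ep0, ep0, ep0, ep0, ep0, ep0, ep0, ep0, ep0, ep0, ep0, ep0, ep0, ep0, ep0, ep0],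
   [ep0, ep0, ep0, ep0, ep0, ep0, ep0, ep0, ep0, ep0, ep8, ep0, ep0, ep0, ep0, ep0, ep0, ep0, ep0, ep0, ep0, ep0, ep0, ep0],
   [ep0, ep0, ep0, ep0, ep0, ep0, ep0, ep0, ep8, ep0, ep0, ep0, ep0, ep0, ep0, ep0, ep0, ep0, ep0, ep0, ep0, ep0, ep0, ep0],
   [ep0, ep0, ep0, ep0, ep0, ep0, ep0, ep0, ep0, ep0, ep0, ep0, ep0, ep0, ep0, ep0, ep0, ep0, ep0, ep0, ep0, ep0, ep0, ep8]],
  [[ep8, ep0, ep0, ep0, ep0, ep0, ep0, ep0, ep0, ep0, ep0, ep0, ep0, ep0, ep0, ep0, ep0, ep0, ep0, ep0, ep0, ep0, ep0, ep0],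
   [ep0, ep8, ep0, ep0, ep0, ep0, ep0, ep0, ep0, ep0, ep0, ep0, ep0, ep0, ep0, ep0, ep0, ep0, ep0, ep0, ep0, ep0, ep0, ep0],
   [ep0, ep0, ep8, ep0, ep0, ep0, ep0, ep0, ep0, ep0, ep0, ep0, ep0, ep0, ep0, ep0, ep0, ep0, ep0, ep0, ep0, ep0, ep0, ep0],
   [ep0, ep0, ep0, ep8, ep0, ep0, ep0, ep0, ep0, ep0, ep0, ep0, ep0, ep0, ep0, ep0, ep0, ep0, ep0, ep0, ep0, ep0, ep0, ep0],
   [ep0, ep0, ep0, ep0, ep8, ep0, ep0, ep0, ep0, ep0, ep0, ep0, ep0, ep0, ep0, ep0, ep0, ep0, ep0, ep0, ep0, ep0, ep0, ep0],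
   [ep0, ep0, ep0, ep0, ep0, ep8, ep0, ep0, ep0, ep0, ep0, ep0, ep0, ep0, ep0, ep0, ep0, ep0, ep0, ep0, ep0, ep0, ep0, ep0],
   [ep0, ep0, ep0, ep0, ep0, ep0, ep8, ep0, ep0, ep0, ep0, ep0, ep0, ep0, ep0, ep0, ep0, ep0, ep0, ep0, ep0, ep0, ep0, ep0],
   [ep0, ep0, ep0, ep0, ep0, ep0, ep0, em8, ep0, ep0, ep0, ep0, ep0, ep0, ep0, ep0, ep0, ep0, ep0, ep0, ep0, ep0, ep0, ep0],
   [ep0, ep0, ep0, ep0, ep0, ep0, ep0, ep0, em8, ep0, ep0, ep0, ep0, ep0, ep0, ep0, ep0, ep0, ep0, ep0, ep0, ep0, ep0, ep0],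
   [ep0, ep0, ep0, ep0, ep0, ep0, ep0, ep0, ep0, em8, ep0, ep0, ep0, ep0, ep0, ep0, ep0, ep0, ep0, ep0, ep0, ep0, ep0, ep0],
   [ep0, ep0, ep0, ep0, ep0, ep0, ep0, ep0, ep0, ep0, ep8, ep0, ep0, ep0, ep0, ep0, ep0, ep0, ep0, ep0, ep0, ep0, ep0, ep0],
   [ep0, ep0, ep0, ep0, ep0, ep0, ep0, ep0, ep0, ep0, ep0, ep8, ep0, ep0, ep0, ep0, ep0, ep0, ep0, ep0, ep0, ep0, ep0, ep0],
   [ep0, ep0, ep0, ep0, ep0, ep0, ep0, ep0, ep0, ep0, ep0, ep0, em8, ep0, ep0, ep0, ep0, ep0, ep0, ep0, ep0, ep0, ep0, ep0],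
   [ep0, ep0, ep0, ep0, ep0, ep0, ep0, ep0, ep0, ep0, ep0, ep0, ep0, em8, ep0, ep0, ep0, ep0, ep0, ep0, ep0, ep0, ep0, ep0],
   [ep0, ep0, ep0, ep0, ep0, ep0, ep0, ep0, ep0, ep0, ep0, ep0, ep0, ep0, ep8, ep0, ep0, ep0, ep0, ep0, ep0, ep0, ep0, ep0],
   [ep0, ep0, ep0, ep0, ep0, ep0, ep0, ep0, ep0, ep0, ep0, ep0, ep0, ep0, ep0, ep8, ep0, ep0, ep0, ep0, ep0, ep0, ep0, ep0],
   [ep0, ep0, ep0, ep0, ep0, ep0, ep0, ep0, ep0, ep0, ep0, ep0, ep0, ep0, ep0, ep0, ep8, ep0, ep0, ep0, ep0, ep0, ep0, ep0],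
   [ep0, ep0, ep0, ep0, ep0, ep0, ep0, ep0, ep0, ep0, ep0, ep0, ep0, ep0, ep0, ep0, ep0, ep8, ep0, ep0, ep0, ep0, ep0, ep0],
   [ep0, ep0, ep0, ep0, ep0, ep0, ep0, ep0, ep0, ep0, ep0, ep0, ep0, ep0, ep0, ep0, ep0, ep0, ep8, ep0, ep0, ep0, ep0, ep0],
   [ep0, ep0, ep0, ep0, ep0, ep0, ep0, ep0, ep0, ep0, ep0, ep0, ep0, ep0, ep0, ep0, ep0, ep0, ep0, em8, ep0, ep0, ep0, ep0],
   [ep0, ep0, ep0, ep0, ep0, ep0, ep0, ep0, ep0, ep0, ep0, ep0, ep0, ep0, ep0, ep0, ep0, ep0, ep0, ep0, em8, ep0, ep0, ep0],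
   [ep0, ep0, ep0, ep0, ep0, ep0, ep0, ep0, ep0, ep0, ep0, ep0, ep0, ep0, ep0, ep0, ep0, ep0, ep0, ep0, ep0, ep8, ep0, ep0],
   [ep0, ep0, ep0, ep0, ep0, ep0, ep0, ep0, ep0, ep0, ep0, ep0, ep0, ep0, ep0, ep0, ep0, ep0, ep0, ep0, ep0, ep0, em8, ep0],
   [ep0, ep0, ep0, ep0, ep0, ep0, ep0, ep0, ep0, ep0, ep0, ep0, ep0, ep0, ep0, ep0, ep0, ep0, ep0, ep0, ep0, ep0, ep0, ep8]],
  [[ep8, ep0, ep0, ep0, ep0, ep0, ep0, ep0, ep0, ep0, ep0, ep0, ep0, ep0, ep0, ep0, ep0, ep0, ep0, ep0, ep0, ep0, ep0, ep0],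
   [ep0, ep8, ep0, ep0, ep0, ep0, ep0, ep0, ep0, ep0, ep0, ep0, ep0, ep0, ep0, ep0, ep0, ep0, ep0, ep0, ep0, ep0, ep0, ep0],
   [ep0, ep0, ep8, ep0, ep0, ep0, ep0, ep0, ep0, ep0, ep0, ep0, ep0, ep0, ep0, ep0, ep0, ep0, ep0, ep0, ep0, ep0, ep0, ep0],
   [ep0, ep0, ep0, ep8, ep0, ep0, ep0, ep0, ep0, ep0, ep0, ep0, ep0, ep0, ep0, ep0, ep0, ep0, ep0, ep0, ep0, ep0, ep0, ep0],
   [ep0, ep0, ep0, ep0, ep0, ep0, ep0, ep0, ep0, ep0, ep8, ep0, ep0, ep0, ep0, ep0, ep0, ep0, ep0, ep0, ep0, ep0, ep0, ep0],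
   [ep0, ep0, ep0, ep0, ep0, ep8, ep0, ep0, ep0, ep0, ep0, ep0, ep0, ep0, ep0, ep0, ep0, ep0, ep0, ep0, ep0, ep0, ep0, ep0],
   [ep0, ep0, ep0, ep0, ep0, ep0, ep0, ep0, ep0, ep0, ep0, ep8, ep0, ep0, ep0, ep0, ep0, ep0, ep0, ep0, ep0, ep0, ep0, ep0],
   [ep0, ep0, ep0, ep0, ep0, ep0, ep0, ep0, ep0, ep0, ep0, ep0, em8, ep0, ep0, ep0, ep0, ep0, ep0, ep0, ep0, ep0, ep0, ep0],
   [ep0, ep0, ep0, ep0, ep0, ep0, ep0, ep0, ep0, ep0, ep0, ep0, ep0, ep0, ep0, ep0, ep0, ep0, ep0, em8, ep0, ep0, ep0, ep0],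
   [ep0, ep0, ep0, ep0, ep0, ep0, ep0, ep0, ep0, ep0, ep0, ep0, ep0, ep0, ep0, ep0, ep0, ep0, ep0, ep0, ep0, ep0, em8, ep0],
   [ep0, ep0, ep0, ep0, ep8, ep0, ep0, ep0, ep0, ep0, ep0, ep0, ep0, ep0, ep0, ep0, ep0, ep0, ep0, ep0, ep0, ep0, ep0, ep0],
   [ep0, ep0, ep0, ep0, ep0, ep0, ep8, ep0, ep0, ep0, ep0, ep0, ep0, ep0, ep0, ep0, ep0, ep0, ep0, ep0, ep0, ep0, ep0, ep0],
   [ep0, ep0, ep0, ep0, ep0, ep0, ep0, em8, ep0, ep0, ep0, ep0, ep0, ep0, ep0, ep0, ep0, ep0, ep0, ep0, ep0, ep0, ep0, ep0],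
   [ep0, ep0, ep0, ep0, ep0, ep0, ep0, ep0, ep0, ep0, ep0, ep0, ep0, ep0, ep0, ep0, ep0, ep0, ep0, ep0, em8, ep0, ep0, ep0],
   [ep0, ep0, ep0, ep0, ep0, ep0, ep0, ep0, ep0, ep0, ep0, ep0, ep0, ep0, ep8, ep0, ep0, ep0, ep0, ep0, ep0, ep0, ep0, ep0],
   [ep0, ep0, ep0, ep0, ep0, ep0, ep0, ep0, ep0, ep0, ep0, ep0, ep0, ep0, ep0, ep0, ep8, ep0, ep0, ep0, ep0, ep0, ep0, ep0],
   [ep0, ep0, ep0, ep0, ep0, ep0, ep0, ep0, ep0, ep0, ep0, ep0, ep0, ep0, ep0, ep8, ep0, ep0, ep0, ep0, ep0, ep0, ep0, ep0],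
   [ep0, ep0, ep0, ep0, ep0, ep0, ep0, ep0, ep0, ep0, ep0, ep0, ep0, ep0, ep0, ep0, ep0, ep8, ep0, ep0, ep0, ep0, ep0, ep0],
   [ep0, ep0, ep0, ep0, ep0, ep0, ep0, ep0, ep0, ep0, ep0, ep0, ep0, ep0, ep0, ep0, ep0, ep0, ep0, ep0, ep0, ep8, ep0, ep0],
   [ep0, ep0, ep0, ep0, ep0, ep0, ep0, ep0, em8, ep0, ep0, ep0, ep0, ep0, ep0, ep0, ep0, ep0, ep0, ep0, ep0, ep0, ep0, ep0],
   [ep0, ep0, ep0, ep0, ep0, ep0, ep0, ep0, ep0, ep0, ep0, ep0, ep0, em8, ep0, ep0, ep0, ep0, ep0, ep0, ep0, ep0, ep0, ep0],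
   [ep0, ep0, ep0, ep0, ep0, ep0, ep0, ep0, ep0, ep0, ep0, ep0, ep0, ep0, ep0, ep0, ep0, ep0, ep8, ep0, ep0, ep0, ep0, ep0],
   [ep0, ep0, ep0, ep0, ep0, ep0, ep0, ep0, ep0, em8, ep0, ep0, ep0, ep0, ep0, ep0, ep0, ep0, ep0, ep0, ep0, ep0, ep0, ep0],
   [ep0, ep0, ep0, ep0, ep0, ep0, ep0, ep0, ep0, ep0, ep0, ep0, ep0, ep0, ep0, ep0, ep0, ep0, ep0, ep0, ep0, ep0, ep0, ep8]],
  [[ep8, ep0, ep0, ep0, ep0, ep0, ep0, ep0, ep0, ep0, ep0, ep0, ep0, ep0, ep0, ep0, ep0, ep0, ep0, ep0, ep0, ep0, ep0, ep0],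
   [ep0, ep8, ep0, ep0, ep0, ep0, ep0, ep0, ep0, ep0, ep0, ep0, ep0, ep0, ep0, ep0, ep0, ep0, ep0, ep0, ep0, ep0, ep0, ep0],
   [ep0, ep0, ep8, ep0, ep0, ep0, ep0, ep0, ep0, ep0, ep0, ep0, ep0, ep0, ep0, ep0, ep0, ep0, ep0, ep0, ep0, ep0, ep0, ep0],
   [ep0, ep0, ep0, ep8, ep0, ep0, ep0, ep0, ep0, ep0, ep0, ep0, ep0, ep0, ep0, ep0, ep0, ep0, ep0, ep0, ep0, ep0, ep0, ep0],
   [ep0, ep0, ep0, ep0, em8, ep0, ep0, ep0, ep0, ep0, ep0, ep0, ep0, ep0, ep0, ep0, ep0, ep0, ep0, ep0, ep0, ep0, ep0, ep0],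
   [ep0, ep0, ep0, ep0, ep0, ep8, ep0, ep0, ep0, ep0, ep0, ep0, ep0, ep0, ep0, ep0, ep0, ep0, ep0, ep0, ep0, ep0, ep0, ep0],
   [ep0, ep0, ep0, ep0, ep0, ep0, em8, ep0, ep0, ep0, ep0, ep0, ep0, ep0, ep0, ep0, ep0, ep0, ep0, ep0, ep0, ep0, ep0, ep0],
   [ep0, ep0, ep0, ep0, ep0, ep0, ep0, em8, ep0, ep0, ep0, ep0, ep0, ep0, ep0, ep0, ep0, ep0, ep0, ep0, ep0, ep0, ep0, ep0],
   [ep0, ep0, ep0, ep0, ep0, ep0, ep0, ep0, em8, ep0, ep0, ep0, ep0, ep0, ep0, ep0, ep0, ep0, ep0, ep0, ep0, ep0, ep0, ep0],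
   [ep0, ep0, ep0, ep0, ep0, ep0, ep0, ep0, ep0, em8, ep0, ep0, ep0, ep0, ep0, ep0, ep0, ep0, ep0, ep0, ep0, ep0, ep0, ep0],
   [ep0, ep0, ep0, ep0, ep0, ep0, ep0, ep0, ep0, ep0, em8, ep0, ep0, ep0, ep0, ep0, ep0, ep0, ep0, ep0, ep0, ep0, ep0, ep0],
   [ep0, ep0, ep0, ep0, ep0, ep0, ep0, ep0, ep0, ep0, ep0, em8, ep0, ep0, ep0, ep0, ep0, ep0, ep0, ep0, ep0, ep0, ep0, ep0],
   [ep0, ep0, ep0, ep0, ep0, ep0, ep0, ep0, ep0, ep0, ep0, ep0, em8, ep0, ep0, ep0, ep0, ep0, ep0, ep0, ep0, ep0, ep0, ep0],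
   [ep0, ep0, ep0, ep0, ep0, ep0, ep0, ep0, ep0, ep0, ep0, ep0, ep0, em8, ep0, ep0, ep0, ep0, ep0, ep0, ep0, ep0, ep0, ep0],
   [ep0, ep0, ep0, ep0, ep0, ep0, ep0, ep0, ep0, ep0, ep0, ep0, ep0, ep0, ep8, ep0, ep0, ep0, ep0, ep0, ep0, ep0, ep0, ep0],
   [ep0, ep0, ep0, ep0, ep0, ep0, ep0, ep0, ep0, ep0, ep0, ep0, ep0, ep0, ep0, em8, ep0, ep0, ep0, ep0, ep0, ep0, ep0, ep0],
   [ep0, ep0, ep0, ep0, ep0, ep0, ep0, ep0, ep0, ep0, ep0, ep0, ep0, ep0, ep0, ep0, em8, ep0, ep0, ep0, ep0, ep0, ep0, ep0],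
   [ep0, ep0, ep0, ep0, ep0, ep0, ep0, ep0, ep0, ep0, ep0, ep0, ep0, ep0, ep0, ep0, ep0, ep8, ep0, ep0, ep0, ep0, ep0, ep0],
   [ep0, ep0, ep0, ep0, ep0, ep0, ep0, ep0, ep0, ep0, ep0, ep0, ep0, ep0, ep0, ep0, ep0, ep0, em8, ep0, ep0, ep0, ep0, ep0],
   [ep0, ep0, ep0, ep0, ep0, ep0, ep0, ep0, ep0, ep0, ep0, ep0, ep0, ep0, ep0, ep0, ep0, ep0, ep0, em8, ep0, ep0, ep0, ep0],
   [ep0, ep0, ep0, ep0, ep0, ep0, ep0, ep0, ep0, ep0, ep0, ep0, ep0, ep0, ep0, ep0, ep0, ep0, ep0, ep0, em8, ep0, ep0, ep0],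
   [ep0, ep0, ep0, ep0, ep0, ep0, ep0, ep0, ep0, ep0, ep0, ep0, ep0, ep0, ep0, ep0, ep0, ep0, ep0, ep0, ep0, em8, ep0, ep0],
   [ep0, ep0, ep0, ep0, ep0, ep0, ep0, ep0, ep0, ep0, ep0, ep0, ep0, ep0, ep0, ep0, ep0, ep0, ep0, ep0, ep0, ep0, em8, ep0],
   [ep0, ep0, ep0, ep0, ep0, ep0, ep0, ep0, ep0, ep0, ep0, ep0, ep0, ep0, ep0, ep0, ep0, ep0, ep0, ep0, ep0, ep0, ep0, ep8]],
  [[ep4, ep0, ep2, ep2, ep2, em2, ep0, ep0, ep0, ep0, ep2, ep0, ep0, ep0, ep0, ep0, ep0, em2, ep2, ep0, ep0, ep2, ep0, ep4],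
   [ep0, ep4, ep2, ep2, em2, em2, ep0, ep0, ep0, ep0, em2, ep0, ep0, ep0, ep4, ep0, ep0, em2, em2, ep0, ep0, em2, ep0, ep0],
   [ep2, ep2, ep0, ep0, ep0, ep0, em2, em2, ep2, em2, ep0, em2, ep2, ep2, em2, em2, em2, ep0, ep0, em2, em2, ep0, ep2, em2],
   [ep2, ep2, ep0, ep0, ep0, ep0, ep2, ep2, ep2, em2, ep0, ep2, em2, em2, em2, ep2, ep2, ep0, ep0, em2, ep2, ep0, ep2, em2],
   [ep2, em2, ep0, ep0, ep0, ep0, em2, em2, ep2, em2, ep0, em2, em2, em2, ep2, ep2, ep2, ep0, ep0, ep2, em2, ep0, em2, em2],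
   [em2, em2, ep0, ep0, ep0, ep0, ep2, em2, ep2, em2, ep0, ep2, ep2, ep2, ep2, ep2, ep2, ep0, ep0, em2, em2, ep0, ep2, ep2],
   [ep0, ep0, em2, ep2, em2, ep2, ep4, ep0, ep0, ep0, em2, em4, ep0, ep0, ep0, ep0, ep0, em2, ep2, ep0, ep0, ep2, ep0, ep0],
   [ep0, ep0, em2, ep2, em2, em2, ep0, ep4, ep0, ep0, ep2, ep0, ep0, ep0, ep0, ep0, ep0, ep2, em2, ep0, em4, ep2, ep0, ep0],
   [ep0, ep0, ep2, ep2, ep2, ep2, ep0, ep0, ep4, ep4, em2, ep0, ep0, ep0, ep0, ep0, ep0, ep2, em2, ep0, ep0, ep2, ep0, ep0],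
   [ep0, ep0, em2, em2, em2, em2, ep0, ep0, ep4, ep4, ep2, ep0, ep0, ep0, ep0, ep0, ep0, em2, ep2, ep0, ep0, em2, ep0, ep0],
   [ep2, em2, ep0, ep0, ep0, ep0, em2, ep2, em2, ep2, ep0, em2, ep2, ep2, ep2, ep2, ep2, ep0, ep0, em2, ep2, ep0, ep2, em2],
   [ep0, ep0, em2, ep2, em2, ep2, em4, ep0, ep0, ep0, em2, ep4, ep0, ep0, ep0, ep0, ep0, em2, ep2, ep0, ep0, ep2, ep0, ep0],
   [ep0, ep0, ep2, em2, em2, ep2, ep0, ep0, ep0, ep0, ep2, ep0, ep4, em4, ep0, ep0, ep0, em2, em2, ep0, ep0, ep2, ep0, ep0],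
   [ep0, ep0, ep2, em2, em2, ep2, ep0, ep0, ep0, ep0, ep2, ep0, em4, ep4, ep0, ep0, ep0, em2, em2, ep0, ep0, ep2, ep0, ep0],
   [ep0, ep4, em2, em2, ep2, ep2, ep0, ep0, ep0, ep0, ep2, ep0, ep0, ep0, ep4, ep0, ep0, ep2, ep2, ep0, ep0, ep2, ep0, ep0],
   [ep0, ep0, em2, ep2, ep2, ep2, ep0, ep0, ep0, ep0, ep2, ep0, ep0, ep0, ep0, ep4, em4, em2, em2, ep0, ep0, em2, ep0, ep0],
   [ep0, ep0, em2, ep2, ep2, ep2, ep0, ep0, ep0, ep0, ep2, ep0, ep0, ep0, ep0, em4, ep4, em2, em2, ep0, ep0, em2, ep0, ep0],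
   [em2, em2, ep0, ep0, ep0, ep0, em2, ep2, ep2, em2, ep0, em2, em2, em2, ep2, em2, em2, ep0, ep0, em2, ep2, ep0, ep2, ep2],
   [ep2, em2, ep0, ep0, ep0, ep0, ep2, em2, em2, ep2, ep0, ep2, em2, em2, ep2, em2, em2, ep0, ep0, em2, em2, ep0, ep2, em2],
   [ep0, ep0, em2, em2, ep2, em2, ep0, ep0, ep0, ep0, em2, ep0, ep0, ep0, ep0, ep0, ep0, em2, em2, ep4, ep0, ep2, ep4, ep0],
   [ep0, ep0, em2, ep2, em2, em2, ep0, em4, ep0, ep0, ep2, ep0, ep0, ep0, ep0, ep0, ep0, ep2, em2, ep0, ep4, ep2, ep0, ep0],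
   [ep2, em2, ep0, ep0, ep0, ep0, ep2, ep2, ep2, em2, ep0, ep2, ep2, ep2, ep2, em2, em2, ep0, ep0, ep2, ep2, ep0, em2, em2],
   [ep0, ep0, ep2, ep2, em2, ep2, ep0, ep0, ep0, ep0, ep2, ep0, ep0, ep0, ep0, ep0, ep0, ep2, ep2, ep4, ep0, em2, ep4, ep0],
   [ep4, ep0, em2, em2, em2, ep2, ep0, ep0, ep0, ep0, em2, ep0, ep0, ep0, ep0, ep0, ep0, ep2, em2, ep0, ep0, em2, ep0, ep4]]]

/-- A basis of the lattice. -/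
def basis : List (List ℤ) :=
  [[1, 1, 1, 1, 1, 1, 1, 1, 1, 1, 1, 1, 1, 1, 1, 1, 1, 1, 1, 1, 1, 1, 1, -3],
   [0, -2, -2, -2, -2, -2, -2, -2, -2, -2, -2, -2, 0, -2, 0, -2, 0, 0, 0, -2, -2, -2, 0, 8],
   [0, 0, -2, -2, -2, -2, -2, -2, -2, -2, -2, -2, 2, 0, 2, 0, 2, 0, 0, 0, -2, -2, 2, 8],
   [0, 0, 0, -2, -2, -2, -2, -2, -2, -2, -2, -2, 4, 2, 2, 2, 2, 0, 2, 0, 0, -2, 4, 10],
   [0, 0, 0, 0, -2, -2, -2, -2, -2, -2, -2, -2, 6, 4, 2, 2, 2, 2, 4, 2, 0, 0, 6, 10],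
   [0, 0, 0, 0, 0, -2, -2, -2, -2, -2, -2, -2, 8, 6, 2, 2, 4, 4, 4, 4, 2, 0, 6, 12],
   [0, 0, 0, 0, 0, 0, -2, -2, -2, -2, -2, -2, 8, 8, 4, 2, 4, 6, 6, 4, 4, 2, 6, 14],
   [0, 0, 0, 0, 0, 0, 0, -2, -2, -2, -2, -2, 8, 8, 6, 4, 4, 6, 8, 6, 4, 4, 8, 16],
   [0, 0, 0, 0, 0, 0, 0, 0, -2, -2, -2, -2, 10, 8, 8, 6, 4, 8, 10, 8, 6, 4, 8, 16],
   [0, 0, 0, 0, 0, 0, 0, 0, 0, -2, -2, -2, 10, 10, 8, 8, 6, 8, 12, 10, 8, 6, 8, 16],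
   [0, 0, 0, 0, 0, 0, 0, 0, 0, 0, -2, -2, 10, 10, 10, 8, 8, 10, 12, 12, 10, 8, 10, 16],
   [0, 0, 0, 0, 0, 0, 0, 0, 0, 0, 0, -2, 12, 10, 12, 10, 10, 10, 12, 12, 12, 10, 10, 18],
   [0, 0, 0, 0, 0, 0, 0, 0, 0, 0, 0, 0, -4, 0, -4, 0, -4, -4, -4, 0, 0, 0, -4, -8],
   [0, 0, 0, 0, 0, 0, 0, 0, 0, 0, 0, 0, 0, -4, 0, -4, 0, 4, 4, -4, 0, 0, 0, 4],
   [0, 0, 0, 0, 0, 0, 0, 0, 0, 0, 0, 0, 0, 0, 4, 0, 4, 0, -4, 4, -4, 0, 0, -4],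
   [0, 0, 0, 0, 0, 0, 0, 0, 0, 0, 0, 0, 0, 0, 0, 4, 0, -4, 0, -4, 4, -4, 0, 4],
   [0, 0, 0, 0, 0, 0, 0, 0, 0, 0, 0, 0, 0, 0, 0, 0, -4, 0, 4, 0, -4, 4, 4, -4],
   [0, 0, 0, 0, 0, 0, 0, 0, 0, 0, 0, 0, 0, 0, 0, 0, 0, -4, -8, 12, -16, 4, 4, -24],
   [0, 0, 0, 0, 0, 0, 0, 0, 0, 0, 0, 0, 0, 0, 0, 0, 0, 0, 4, -16, 12, -8, -4, 12],
   [0, 0, 0, 0, 0, 0, 0, 0, 0, 0, 0, 0, 0, 0, 0, 0, 0, 0, 0, 4, -4, 0, -4, 4],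
   [0, 0, 0, 0, 0, 0, 0, 0, 0, 0, 0, 0, 0, 0, 0, 0, 0, 0, 0, 0, 4, 20, 44, -36],
   [0, 0, 0, 0, 0, 0, 0, 0, 0, 0, 0, 0, 0, 0, 0, 0, 0, 0, 0, 0, 0, 4, 12, -16],
   [0, 0, 0, 0, 0, 0, 0, 0, 0, 0, 0, 0, 0, 0, 0, 0, 0, 0, 0, 0, 0, 0, 4, -4],
   [0, 0, 0, 0, 0, 0, 0, 0, 0, 0, 0, 0, 0, 0, 0, 0, 0, 0, 0, 0, 0, 0, 0, 8]]

/-- The dual basis, times eight. -/
def dual : List (List ℤ) :=
  [[8, 0, 0, 0, 0, 0, 0, 0, 0, 0, 0, 0, 0, 0, 0, 0, 0, 0, 0, 0, 0, 0, 0, 0],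
   [4, -4, 0, 0, 0, 0, 0, 0, 0, 0, 0, 0, 0, 0, 0, 0, 0, 0, 0, 0, 0, 0, 0, 0],
   [0, 4, -4, 0, 0, 0, 0, 0, 0, 0, 0, 0, 0, 0, 0, 0, 0, 0, 0, 0, 0, 0, 0, 0],
   [0, 0, 4, -4, 0, 0, 0, 0, 0, 0, 0, 0, 0, 0, 0, 0, 0, 0, 0, 0, 0, 0, 0, 0],
   [0, 0, 0, 4, -4, 0, 0, 0, 0, 0, 0, 0, 0, 0, 0, 0, 0, 0, 0, 0, 0, 0, 0, 0],
   [0, 0, 0, 0, 4, -4, 0, 0, 0, 0, 0, 0, 0, 0, 0, 0, 0, 0, 0, 0, 0, 0, 0, 0],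
   [0, 0, 0, 0, 0, 4, -4, 0, 0, 0, 0, 0, 0, 0, 0, 0, 0, 0, 0, 0, 0, 0, 0, 0],
   [0, 0, 0, 0, 0, 0, 4, -4, 0, 0, 0, 0, 0, 0, 0, 0, 0, 0, 0, 0, 0, 0, 0, 0],
   [0, 0, 0, 0, 0, 0, 0, 4, -4, 0, 0, 0, 0, 0, 0, 0, 0, 0, 0, 0, 0, 0, 0, 0],
   [0, 0, 0, 0, 0, 0, 0, 0, 4, -4, 0, 0, 0, 0, 0, 0, 0, 0, 0, 0, 0, 0, 0, 0],
   [0, 0, 0, 0, 0, 0, 0, 0, 0, 4, -4, 0, 0, 0, 0, 0, 0, 0, 0, 0, 0, 0, 0, 0],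
   [0, 0, 0, 0, 0, 0, 0, 0, 0, 0, 4, -4, 0, 0, 0, 0, 0, 0, 0, 0, 0, 0, 0, 0],
   [2, 2, 2, 2, 2, 0, 0, 2, 0, 0, 2, -12, -2, 0, 0, 0, 0, 0, 0, 0, 0, 0, 0, 0],
   [0, 2, 2, 2, 2, 2, 0, 0, 2, 0, 0, -10, 0, -2, 0, 0, 0, 0, 0, 0, 0, 0, 0, 0],
   [0, 0, 2, 2, 2, -2, -2, 0, 0, -2, 0, 0, -2, 0, 2, 0, 0, 0, 0, 0, 0, 0, 0, 0],
   [0, 0, 0, 2, 2, 2, -2, -2, 0, 0, -2, 0, 0, -2, 0, 2, 0, 0, 0, 0, 0, 0, 0, 0],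
   [0, 0, 0, 0, 2, -2, -2, -2, 2, 0, 0, 2, 0, 0, 2, 0, -2, 0, 0, 0, 0, 0, 0, 0],
   [0, 0, 0, 0, 0, 2, 2, 2, 2, 2, 0, -8, 2, 0, 0, -2, 0, -2, 0, 0, 0, 0, 0, 0],
   [0, 0, 0, 0, 0, 0, 2, 6, -2, 2, 2, -8, 0, 2, 0, -4, 2, -4, 2, 0, 0, 0, 0, 0],
   [0, 0, 0, 0, 0, 0, 0, 14, -14, 2, 6, -6, -4, 4, -2, -8, 8, -10, 8, 2, 0, 0, 0, 0],
   [0, 0, 0, 0, 0, 0, 0, 2, 0, 0, 0, 0, 2, 0, 2, -6, 0, -6, 2, 2, 2, 0, 0, 0],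
   [0, 0, 0, 0, 0, 0, 0, 0, -10, 0, 0, 0, -12, 2, -12, 26, 6, 24, -6, -10, -10, 2, 0, 0],
   [0, 0, 0, 0, 0, 0, 0, 0, 10, 0, 10, -10, 6, 0, 10, -22, -6, -18, 6, 10, 8, -6, 2, 0],
   [1, 1, 1, 1, 1, 1, 1, 1, 1, 1, 1, -11, -7, 1, -7, 17, 1, 17, -7, -7, -7, 1, 1, 1]]

/-- The images of the basis modulo two. -/
def codes : List ℕ :=
  [0xbc60708222110a88403934916255e1bfb0110353610053610080000040008030003c707021f0b26e2d5196fa30107a307a2e51607632d776d0e549b3f3a19b464ea5fe42630cb092,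
   0x800000a4b00050a000def00078a000caf000020000dbf000da70000040008030000010006760dabb6ad86bccc0ed4b40af6e58fc165a2a402056460a26e612eee01c44b01a8a229b,
   0x800000c00000200000100000080000040000020000010000008000004000802000001000c92800792400c76200184100b7d08030104080102030101030100880100480100238cc43,
   0xe60070e21e6f84b83013989fea599f85ec6fc1cf6fc2cf6f668070664070e63070661070c882c2a4377024aa30a36840a369c0294b82a36960cea7cd2ba47aa186f426478209215c,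
   0x800000e01000200000e93000d130008d9000020000010000d9b000d97000803000001000d53c0204c80c18acc023094065424cd53442ad5c2c88d81e88d806d0b004546c0e9afe8f,
   0x800000781000980000078000a78000138000020000010000008000d930005940000010001d90c2ac3d46ff1fc07a1840bbb9c65f91c298c02650c194e8c18c3740025630049b2505,
   0x80000074100050a0005770008bd00033d00072a000f2700000800083900003e000001000b98632c19ac0736200f1f370b7c0807bd0b2a80076d010b4a0b0ac6ca052341002606c15,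
   0x800000c00000a00000100000080000840000820000810000008000004000002000001000b28800700400800200d9a100f0b080b1f04075f020c40010700008068004b40002463271,
   0x80000007c000a36000d7600096c00043c0001c60001f60000080000040000020000010005ab5c05f5ac0836200dac1003a2e30e50df021ad9059a010610cc89b2304fc0cc2faf201,
   0x800000c00000200000900000080000840000020000010000008000004000002000001000cd88001d840003c200036100c7608094a04094002000a01070000850a004b40002b2fec1,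
   0x800000b00000792000b92000a25000f7c000f17000f270000080000040000020000010001fd23053d600592200e5e1700982801fda70ad24d01b6ed003c008fd86f44bccc2bcc071,
   0x800000c00000a000009000000800008400000200000100000080000040000020000010001ea800892400da6200dac1005040801d00401d00208000103800088a8004a50002b25dc1,
   0x8000006f200023b0003c20007ef00071400077f00074f0000080000040000020000010001217c0c4328003b200bf71709de600aedff0a0e220221da01124882196f4bc4b32000001,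
   0x800000c00000a0000010000088000004000002000001000000800000400000200000100064a80086f40080b20083310086f0803ef040aa502094a010da5008dca00492500248c481,
   0x8000008e4000fa40005ee000c5c0004ae0004f60004c6000008000004000002000001000d596c02ef77066327065b1702d73f0330ef0a7ae90832010cbe488910304d9c78248c481,
   0x800000c000002000009000008800008400008200008100000080000040000020000010005a08008344000002000001008340805a00405aa02080a0105a5008da2004035002bcc071,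
   0x613c44d47c16818a73c6c7899e71be404309a7c48663c946550940327f53841c34e12c44e6fd7214b11ca33e10f60f9bd3039721433922c49a10fbf9504dd6000004c63c62e77f18]

end Cfsg.Agent.CoTwoCert.Data
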