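import Cfsg.Agent.Lib.CoTwoCert.TFacts

/-!
# An automorphism of the local subgroup from an involution of the lattice outside the group

The code `tCode` is an involution on classes modulo two; conjugating by it carries the generators of
`N0` to the same generators times elements of the elementary abelian subgroup.

* `TRel`, `TRel.mul`, `TRel.unique`, `TRel.injective` : the relation "`a'` is `t a t` modulo two"
* `N0`, `exists_tAut` : the automorphism
-/

set_option autoImplicit false

namespace Cfsg.Agent.CoTwoCert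

open Leech CoTwoType

/-- The images of the basis modulo two under the outer involution. -/
def tCode : ℕ := 0xbf907066e4f3863100f2193359b00306aa4314adc317adc30080000040003fb07083f000cb70a0c65383a6330031d780b103f32a54208ecf03304920a7aeb8fb31946cd61202f662

/-- The nine generators of the local subgroup over the elementary abelian one. -/
def nGens : List (ℕ × List (Fin 7)) := [(1, []), (4, []), (16, []), (64, []), (0, [1]), (0, [3]), (0, [4]), (0, [5]), (0, [6])]

/-- The derivation: nine values on the generators and the value on `g2`. -/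
def nCodes : List ℕ := [6, 2, 18, 28, 36, 34, 32, 56, 384, 928]

theorem tCode_invol : ∀ k < 24, fn tCode (fn tCode (1 <<< k)) = 1 <<< k := by decide +kernel

theorem fn_lt (d v : ℕ) : ∀ n, fnN d v n < 2 ^ 24
  | 0 => by simp [fnN]
  | n + 1 => by
    refine Nat.xor_lt_two_pow ?_ (fn_lt d v n)
    cases v.testBit n
    · simp
    · exact lt_of_le_of_lt Nat.and_le_right (by norm_num)

/-- A lattice vector of a given class. -/
noncomputable def liftC (c : ℕ) : ℕ → leechLattice
  | 0 => 0
  | n + 1 => (bif c.testBit n then bV n else 0) + liftC c n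

theorem testBit_cls_liftC (c : ℕ) : ∀ n ≤ 24, ∀ i,
    (cls (liftC c n)).testBit i = (decide (i < n) && c.testBit i)
  | 0, _, i => by simp [liftC, cls_zero]
  | n + 1, hn, i => by
    rw [liftC, cls_add, Nat.testBit_xor, testBit_cls_liftC c n (by omega) i]
    have hb : (cls (bif c.testBit n then bV n else 0)).testBit i = (decide (n = i) && c.testBit i) := by
      cases h : c.testBit n
      · rw [cond_false, cls_zero, Nat.zero_testBit]
        by_cases e : n = i
        · subst e; simp [h]
        · simp [e]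
      · rw [cond_true, cls_bV n (by omega), Nat.shiftLeft_eq, one_mul, Nat.testBit_two_pow]
        by_cases e : n = i
        · subst e; simp [h]
        · simp [e]
    rw [hb]
    by_cases e : n = i
    · subst e; simp
    · have : decide (i < n + 1) = decide (i < n) := decide_eq_decide.2 (by omega)
      rw [this, show decide (n = i) = false from decide_eq_false e]; simp

theorem exists_cls {c : ℕ} (hc : c < 2 ^ 24) : ∃ x : leechLattice, cls x = c :=
  ⟨liftC c 24, Nat.eq_of_testBit_eq fun i => by
    rw [testBit_cls_liftC c 24 le_rfl]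
    by_cases hi : i < 24
    · simp [hi]
    · rw [Nat.testBit_eq_false_of_lt (lt_of_lt_of_le hc (Nat.pow_le_pow_right (by norm_num) (by omega)))]
      simp⟩

theorem tCode_cls (x : leechLattice) : fn tCode (fn tCode (cls x)) = cls x :=
  eq_of_basis (fun x => fn tCode (fn tCode (cls x))) cls (fun x y => by rw [cls_add, fn_xor, fn_xor]) cls_add
    (fun k hk => by show fn tCode _ = _; rw [cls_bV k hk, tCode_invol k hk]) x

theorem exists_twist (x : leechLattice) : ∃ x' : leechLattice, cls x' = fn tCode (cls x) :=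
  exists_cls (fn_lt _ _ 24)

/-- `a'` is the conjugate of `a` by the outer involution, modulo two. -/
def TRel (a a' : ↥co2Group) : Prop :=
  ∀ x x' : leechLattice, cls x' = fn tCode (cls x) →
    cls ((a' : Co0) • x') = fn tCode (cls ((a : Co0) • x))

theorem TRel.one : TRel 1 1 := fun x x' h => by rwa [OneMemClass.coe_one, one_smul, one_smul]

theorem TRel.mul {a a' b b' : ↥co2Group} (ha : TRel a a') (hb : TRel b b') : TRel (a * b) (a' * b') :=
  fun x x' h => by
    rw [Subgroup.coe_mul, Subgroup.coe_mul, mul_smul, mul_smul]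
    exact ha _ _ (hb x x' h)

theorem TRel.inv {a a' : ↥co2Group} (ha : TRel a a') : TRel a⁻¹ a'⁻¹ := fun x x' h => by
  obtain ⟨y', hy'⟩ := exists_twist (((a⁻¹ : ↥co2Group) : Co0) • x)
  have e := ha _ _ hy'
  rw [Subgroup.coe_inv, smul_inv_smul, ← h] at e
  rw [← hy']
  have e2 := cls_smul_congr (a' : Co0)⁻¹ e
  rw [inv_smul_smul] at e2
  rw [Subgroup.coe_inv]
  exact e2.symm

theorem TRel.unique {a a' a'' : ↥co2Group} (h1 : TRel a a') (h2 : TRel a a'') : a' = a'' :=
  eq_of_cls fun k hk => by
    obtain ⟨x, hx⟩ := exists_twist (bV k)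
    have h : cls (bV k) = fn tCode (cls x) := by rw [hx, tCode_cls]
    rw [h1 x _ h, h2 x _ h]

theorem TRel.injective {a b c : ↥co2Group} (h1 : TRel a c) (h2 : TRel b c) : a = b :=
  eq_of_cls fun k hk => by
    obtain ⟨x', hx⟩ := exists_twist (bV k)
    have e := (h1 _ _ hx).symm.trans (h2 _ _ hx)
    rw [← tCode_cls ((a : Co0) • bV k), e, tCode_cls]

/-- The check that two words are related. -/
def relW (w w' : List ℕ) : Bool :=
  (w.all fun k => Nat.blt k 17) && (w'.all fun k => Nat.blt k 17) &&
    (List.range 24).all fun k => fn tCode (appW w (1 <<< k)) == appW w' (fn tCode (1 <<< k))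

theorem tRel_of_relW {w w' : List ℕ} (h : relW w w' = true) : TRel (val w) (val w') := by
  simp only [relW, Bool.and_eq_true, List.all_eq_true, Nat.blt_eq, List.mem_range, beq_iff_eq] at h
  obtain ⟨⟨hw, hw'⟩, he⟩ := h
  intro x x' hx
  rw [cls_val w' hw', cls_val w hw, hx]
  refine (eq_of_basis (fun x => fn tCode (appW w (cls x))) (fun x => appW w' (fn tCode (cls x)))
    (fun x y => ?_) (fun x y => ?_) (fun k hk => ?_) x).symm
  · rw [cls_add, appW, app_xor, fn_xor]; rfl
  · rw [cls_add, fn_xor, appW, app_xor]; rfl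
  · show fn tCode _ = _
    rw [cls_bV k hk, he k hk]

/-- The generators of the local subgroup as pairs. -/
def nSet : List (ℕ × List (Fin 7)) := eGen ++ nGens

/-- The local subgroup. -/
noncomputable def N0 : Subgroup ↥co2Group :=
  Subgroup.closure ({c | ∃ a ∈ nSet, base0.el a = c} ∪ {g2})

theorem el_mem_N0 {a : ℕ × List (Fin 7)} (ha : a ∈ nSet) : base0.el a ∈ N0 :=
  Subgroup.subset_closure (Or.inl ⟨a, ha, rfl⟩)

theorem g2_mem_N0 : g2 ∈ N0 := Subgroup.subset_closure (Or.inr rfl)

theorem E0_le_N0 : base0.E ≤ N0 := by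
  refine (Subgroup.closure_le _).2 ?_
  rintro _ ⟨a, ha, rfl⟩
  exact el_mem_N0 (List.mem_append_left _ ha)

/-- The word of a ten bit code over `eGen`. -/
def eWord (c : ℕ) : List ℕ :=
  ((List.range 10).filter c.testBit).flatMap fun i => pw (eGen.getD i (0, []))

theorem eWord_mem (c : ℕ) : val (eWord c) ∈ base0.E := by
  suffices h : ∀ L : List ℕ, (∀ i ∈ L, i < eGen.length) →
      val (L.flatMap fun i => pw (eGen.getD i (0, []))) ∈ base0.E from
    h _ fun i hi => List.mem_range.1 (List.mem_of_mem_filter hi)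
  intro L
  induction L with
  | nil => exact fun _ => Subgroup.one_mem _
  | cons i L ih =>
    intro hL
    rw [List.flatMap_cons, val_append, ← base0_el]
    refine Subgroup.mul_mem _ (Subgroup.subset_closure ⟨_, ?_, rfl⟩)
      (ih fun j hj => hL j (List.mem_cons_of_mem _ hj))
    rw [List.getD_eq_getElem _ _ (hL i List.mem_cons_self)]
    exact List.getElem_mem _

theorem eGen_check : ∀ i < 10, relW (pw (eGen.getD i (0, []))) (pw (eGen.getD i (0, []))) = true := by
  decide +kernel

theorem nGens_check : ∀ i < 9,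
    relW (pw (nGens.getD i (0, []))) (pw (nGens.getD i (0, [])) ++ eWord (nCodes.getD i 0)) = true ∧
      sameW (eWord (nCodes.getD i 0)) (pw (codePair (nCodes.getD i 0))) = true := by
  decide +kernel

theorem g2_check : relW [16] ([16] ++ eWord (nCodes.getD 9 0)) = true ∧
    sameW (eWord (nCodes.getD 9 0)) (pw (codePair (nCodes.getD 9 0))) = true := by
  decide +kernel

theorem tRel_E {e : ↥co2Group} (he : e ∈ base0.E) : TRel e e := by
  induction he using Subgroup.closure_induction with
  | mem x hx =>
    obtain ⟨a, ha, rfl⟩ := hx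
    obtain ⟨i, hi, rfl⟩ := List.getElem_of_mem ha
    have h := tRel_of_relW (eGen_check i (show i < 10 from hi))
    rw [← base0_el, List.getD_eq_getElem _ _ hi] at h
    exact h
  | one => exact TRel.one
  | mul x y _ _ hx hy => exact hx.mul hy
  | inv x _ hx => exact hx.inv

theorem tRel_nGens {i : ℕ} (hi : i < 9) : TRel (base0.el (nGens.getD i (0, [])))
    (base0.el (nGens.getD i (0, [])) * base0.el (codePair (nCodes.getD i 0))) := by
  obtain ⟨h1, h2⟩ := nGens_check i hi
  have h := tRel_of_relW h1
  rwa [val_append, eq_of_sameW h2, ← base0_el, ← base0_el] at h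

theorem tRel_g2 : TRel g2 (g2 * base0.el (codePair (nCodes.getD 9 0))) := by
  obtain ⟨h1, h2⟩ := g2_check
  have h := tRel_of_relW h1
  rwa [val_append, eq_of_sameW h2, val_single, ← base0_el] at h

theorem codePair_mem_N0 {c : ℕ} (h : sameW (eWord c) (pw (codePair c)) = true) :
    base0.el (codePair c) ∈ N0 := by
  rw [base0_el, ← eq_of_sameW h]
  exact E0_le_N0 (eWord_mem c)

theorem exists_tImage {y : ↥co2Group} (hy : y ∈ N0) : ∃ y' ∈ N0, TRel y y' := by
  induction hy using Subgroup.closure_induction with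
  | mem x hx =>
    rcases hx with ⟨a, ha, rfl⟩ | hx
    · rcases List.mem_append.1 ha with he | hg
      · exact ⟨_, el_mem_N0 ha, tRel_E (Subgroup.subset_closure ⟨a, he, rfl⟩)⟩
      · obtain ⟨i, hi, rfl⟩ := List.getElem_of_mem hg
        have h := tRel_nGens (show i < 9 from hi)
        rw [List.getD_eq_getElem nGens _ hi] at h
        exact ⟨_, N0.mul_mem (el_mem_N0 ha) (codePair_mem_N0 (nGens_check i (show i < 9 from hi)).2), h⟩
    · rw [Set.mem_singleton_iff.1 hx]
      exact ⟨_, N0.mul_mem g2_mem_N0 (codePair_mem_N0 g2_check.2), tRel_g2⟩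
  | one => exact ⟨1, N0.one_mem, TRel.one⟩
  | mul x y _ _ hx hy =>
    obtain ⟨a, ha, h1⟩ := hx
    obtain ⟨b, hb, h2⟩ := hy
    exact ⟨a * b, N0.mul_mem ha hb, h1.mul h2⟩
  | inv x _ hx =>
    obtain ⟨a, ha, h1⟩ := hx
    exact ⟨a⁻¹, N0.inv_mem ha, h1.inv⟩

/-- The automorphism of the local subgroup induced by the outer involution. -/
theorem exists_tAut : ∃ τ : ↥N0 ≃* ↥N0,
    (∀ y : ↥N0, TRel y (τ y)) ∧
    (∀ y : ↥N0, (y : ↥co2Group) ∈ base0.E → τ y = y) ∧
    (∀ i < 9, ∀ y : ↥N0, (y : ↥co2Group) = base0.el (nGens.getD i (0, [])) →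
      (τ y : ↥co2Group) = base0.el (nGens.getD i (0, [])) * base0.el (codePair (nCodes.getD i 0))) ∧
    (∀ y : ↥N0, (y : ↥co2Group) = g2 →
      (τ y : ↥co2Group) = g2 * base0.el (codePair (nCodes.getD 9 0))) := by
  have := finite_co2
  let f : ↥N0 → ↥N0 := fun y => ⟨(exists_tImage y.2).choose, (exists_tImage y.2).choose_spec.1⟩
  have hf : ∀ y : ↥N0, TRel y (f y) := fun y => (exists_tImage y.2).choose_spec.2
  let φ : ↥N0 →* ↥N0 := MonoidHom.mk' f fun a b => Subtype.ext ((hf (a * b)).unique ((hf a).mul (hf b)))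
  have hinj : Function.Injective φ := fun a b e => Subtype.ext
    ((hf a).injective (show TRel b (f a) from (show f a = f b from e) ▸ hf b))
  refine ⟨MulEquiv.ofBijective φ ⟨hinj, Finite.surjective_of_injective hinj⟩, hf, fun y hy => ?_,
    fun i hi y hy => ?_, fun y hy => ?_⟩
  · exact Subtype.ext ((hf y).unique (tRel_E hy))
  · have h := hf y
    rw [hy] at h
    exact h.unique (tRel_nGens hi)
  · have h := hf y
    rw [hy] at h
    exact h.unique tRel_g2

end Cfsg.Agent.CoTwoCert
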