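import Cfsg.Agent.Lib.CoTwoCert.Rigid.Group
import Cfsg.Agent.Lib.CoTwoCert.TAuto

/-!
# The second Conway group meets the hypotheses of the rigidity of the local subgroup

* `g2_rigid`, `g2_xPair` : the action of the extra involution
* `tOuter` : the outer automorphism of the local subgroup
-/

set_option autoImplicit false

namespace Cfsg.Agent.CoTwoCert

open Leech CoTwoType

theorem g2_rigid_check : ∀ i < 10,
    sameW ([16] ++ pw (eGen.getD i (0, [])) ++ [16]) (pw (Rigid.gImg i)) = true := by
  decide +kernel

theorem g2_rigid : ∀ i < 10,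
    g2 * base0.el (eGen.getD i (0, [])) * g2⁻¹ = base0.el (Rigid.gImg i) := by
  intro i hi
  have h := eq_of_sameW (g2_rigid_check i hi)
  rw [val_append, val_append, val_single, ← base0_el, ← base0_el] at h
  rw [g2_inv]
  exact h

theorem g2_xPair_check : sameW ([16] ++ pw Rigid.xPair ++ [16]) (pw Rigid.xPair') = true := by
  decide +kernel

theorem g2_xPair : g2 * base0.el Rigid.xPair * g2⁻¹ = base0.el Rigid.xPair' := by
  have h := eq_of_sameW g2_xPair_check
  rw [val_append, val_append, val_single, ← base0_el, ← base0_el] at h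
  rw [g2_inv]
  exact h

theorem rigid_gen_check : ∀ i < 9,
    relW (pw (Rigid.gen i)) (pw (Rigid.gen i) ++ pw (Rigid.ePair (Rigid.nVal i))) = true := by
  decide +kernel

theorem rigid_g_check : relW [16] ([16] ++ pw (Rigid.ePair Rigid.nG)) = true := by
  decide +kernel

theorem rigid_N0_le : Rigid.N0 base0 g2 ≤ N0 := by
  refine (Subgroup.closure_le _).2 ?_
  rintro x (⟨a, ha, rfl⟩ | hx)
  · exact el_mem_N0 ha
  · rw [Set.mem_singleton_iff.1 hx]
    exact g2_mem_N0

/-- The outer automorphism of the local subgroup of the second Conway group. -/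
noncomputable def tOuter : Rigid.Outer base0 g2 where
  θ := MonoidHom.mk' (fun y => (exists_tImage (rigid_N0_le y.2)).choose) fun a b =>
    ((exists_tImage (rigid_N0_le (a * b).2)).choose_spec.2).unique
      (((exists_tImage (rigid_N0_le a.2)).choose_spec.2).mul (exists_tImage (rigid_N0_le b.2)).choose_spec.2)
  eGen_eq y hy := ((exists_tImage (rigid_N0_le y.2)).choose_spec.2).unique (tRel_E hy)
  gen_eq i y hi hy := by
    have h := tRel_of_relW (rigid_gen_check i hi)
    rw [val_append, ← base0_el, ← base0_el, ← hy] at h
    rw [← hy]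
    exact ((exists_tImage (rigid_N0_le y.2)).choose_spec.2).unique h
  g_eq y hy := by
    have h := tRel_of_relW rigid_g_check
    rw [val_append, val_single, ← base0_el, show letter 16 = g2 from rfl] at h
    exact ((exists_tImage (rigid_N0_le y.2)).choose_spec.2).unique (hy.symm ▸ h)

end Cfsg.Agent.CoTwoCert
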