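import Cfsg.Agent.Lib.CoTwoCert.Model
import Cfsg.Agent.Lib.CoTwoType.ElemTen

/-!
# Facts inside the second Conway group used by the rigidity of the local subgroup

* `g2`, `g2_z0` : the involution outside the centraliser swaps `z0` and `el bPair`
* `g2_eGen` : its action on the elementary abelian subgroup
* `centralizer_E0`, `isConj_u`, `not_isConj_v` : self centralising, and the two classes
-/

set_option autoImplicit false

namespace Cfsg.Agent.CoTwoCert

open Leech CoTwoType

/-- The word of a pair. -/
def pw (a : ℕ × List (Fin 7)) : List ℕ := xw a.1 ++ a.2.map Fin.val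

theorem base0_el (a : ℕ × List (Fin 7)) : base0.el a = val (pw a) := by
  show base0.x a.1 * (a.2.map hel).prod = _
  rw [base0_x_word, prod_map_hel, pw, val_append]

/-- The involution outside the centraliser. -/
noncomputable def g2 : ↥co2Group := letter 16

theorem g2_sq : g2 * g2 = 1 := letter_sq 16

theorem g2_inv : g2⁻¹ = g2 := inv_eq_of_mul_eq_one_right g2_sq

/-- The image of `z0` under `g2`. -/
def bPair : ℕ × List (Fin 7) :=
  (256, [2, 3, 0, 2, 1, 3, 4, 5, 6, 4, 5, 4, 3, 2, 1, 3, 0, 2, 0])

/-- The pair of a ten bit code over `eGen`. -/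
def codePair (c : ℕ) : ℕ × List (Fin 7) :=
  (((List.range 10).filter c.testBit).map fun i => eGen.getD i (0, [])).foldl mulP (0, [])

/-- The action of `g2` on the ten generators. -/
def gCodes : List ℕ := [801, 66, 196, 8, 16, 32, 64, 128, 288, 544]

/-- The image of a generator under `g2`. -/
def gImg (i : ℕ) : ℕ × List (Fin 7) := codePair (gCodes.getD i 0)

theorem g2_z0_check : sameW [16, 15, 16] (pw bPair) = true := by decide +kernel

theorem g2_z0 : g2 * z0 * g2 = base0.el bPair := by
  have h := eq_of_sameW g2_z0_check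
  rw [← base0_el, val_cons, val_cons, val_single, ← mul_assoc] at h
  exact h

theorem g2_eGen_check : ∀ i < 10, sameW ([16] ++ pw (eGen.getD i (0, [])) ++ [16]) (pw (gImg i)) = true := by
  decide +kernel

theorem g2_eGen {i : ℕ} (hi : i < 10) :
    g2 * base0.el (eGen.getD i (0, [])) * g2⁻¹ = base0.el (gImg i) := by
  have h := eq_of_sameW (g2_eGen_check i hi)
  rw [val_append, val_append, val_single, ← base0_el, ← base0_el] at h
  rw [g2_inv]
  exact h

theorem centralizer_E0 : ∀ x : ↥co2Group, (∀ e ∈ base0.E, Commute x e) → x ∈ base0.E := by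
  intro x hx
  have h : x ∈ Subgroup.centralizer (base0.E : Set ↥co2Group) :=
    Subgroup.mem_centralizer_iff.2 fun e he => (hx e he).eq.symm
  rwa [base0.centralizer_E split0] at h

/-- The first distinguished element. -/
def uPair : ℕ × List (Fin 7) := (352, [5])

/-- The second distinguished element. -/
def vPair : ℕ × List (Fin 7) := (352, [1, 4, 5, 4, 6, 5, 4])

/-- A word carrying `z0` to the first element. -/
def uConj : List ℕ := [16, 2, 16, 3, 9, 2, 16]

theorem isConj_check : sameW (uConj ++ [15]) (pw uPair ++ uConj) = true := by decide +kernel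

theorem isConj_u : IsConj z0 (base0.el uPair) := by
  have h := eq_of_sameW isConj_check
  rw [val_append, val_append, val_single, ← base0_el] at h
  exact isConj_iff.2 ⟨val uConj, mul_inv_eq_iff_eq_mul.2 h⟩

/-! ### The trace -/

/-- The matrix of an element on `eightVec`. -/
def mat8 (g : ↥co2Group) : Matrix GolayPt GolayPt ℤ :=
  Matrix.of fun p q => (((g : Co0) • eightVec q : leechLattice) : GolayPt → ℤ) p

theorem eight_smul (x : leechLattice) : (8 : ℤ) • x = ∑ q, (x : GolayPt → ℤ) q • eightVec q := by
  refine Subtype.ext (funext fun p => ?_)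
  rw [AddSubgroup.val_finsetSum, Finset.sum_apply, AddSubgroupClass.coe_zsmul, Pi.smul_apply, smul_eq_mul]
  simp only [AddSubgroupClass.coe_zsmul, Pi.smul_apply, coe_eightVec, smul_eq_mul, Pi.single_apply,
    mul_ite, mul_zero, Finset.sum_ite_eq, Finset.mem_univ, if_true]
  ring

theorem eight_mat8 (g : ↥co2Group) (x : leechLattice) (p : GolayPt) :
    8 * (((g : Co0) • x : leechLattice) : GolayPt → ℤ) p = ∑ q, mat8 g p q * (x : GolayPt → ℤ) q := by
  have h := congrArg (fun y : leechLattice => (((g : Co0) • y : leechLattice) : GolayPt → ℤ) p) (eight_smul x)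
  simp only [smul_zsmul, AddSubgroupClass.coe_zsmul, Pi.smul_apply, smul_eq_mul] at h
  rw [h, ← addHom_apply, map_sum, AddSubgroup.val_finsetSum, Finset.sum_apply]
  refine Finset.sum_congr rfl fun q _ => ?_
  rw [map_zsmul, addHom_apply, AddSubgroupClass.coe_zsmul, Pi.smul_apply, smul_eq_mul, mat8,
    Matrix.of_apply, mul_comm]

theorem mat8_mul (g h : ↥co2Group) : (8 : ℤ) • mat8 (g * h) = mat8 g * mat8 h := by
  ext p q
  rw [Matrix.smul_apply, Matrix.mul_apply, smul_eq_mul]
  show 8 * ((((g * h : ↥co2Group) : Co0) • eightVec q : leechLattice) : GolayPt → ℤ) p = _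
  rw [Subgroup.coe_mul, mul_smul, eight_mat8]
  rfl

/-- The trace, times eight. -/
def tr8 (g : ↥co2Group) : ℤ := (mat8 g).trace

theorem tr8_comm (g h : ↥co2Group) : tr8 (g * h) = tr8 (h * g) := by
  have e := congrArg Matrix.trace (mat8_mul g h)
  rw [Matrix.trace_mul_comm, ← mat8_mul h g, Matrix.trace_smul, Matrix.trace_smul, smul_eq_mul,
    smul_eq_mul] at e
  exact Int.eq_of_mul_eq_mul_left (by norm_num) e

theorem tr8_conj {a b : ↥co2Group} (h : IsConj a b) : tr8 a = tr8 b := by
  obtain ⟨c, rfl⟩ := isConj_iff.1 h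
  rw [tr8_comm (c * a) c⁻¹, ← mul_assoc, inv_mul_cancel, one_mul]

/-- The image of a list of coordinates under a word. -/
noncomputable def runL : List ℕ → List ℤ → List ℤ
  | [], x => x
  | k :: w, x => imgL (rowsOf k) (runL w x)

theorem runL_spec : ∀ (w : List ℕ), (∀ k ∈ w, k < 17) → ∀ (x : List ℤ), x.length = 24 →
    ∀ v : leechLattice, (v : GolayPt → ℤ) = vOf x → (runL w x).length = 24 ∧
      (((val w : Co0) • v : leechLattice) : GolayPt → ℤ) = vOf (runL w x)
  | [], _, x, hx, v, hv => ⟨hx, by
      show ((((1 : ↥co2Group) : Co0) • v : leechLattice) : GolayPt → ℤ) = _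
      rw [OneMemClass.coe_one, one_smul, hv]; rfl⟩
  | k :: w, hw, x, hx, v, hv => by
    have hk := hw k List.mem_cons_self
    obtain ⟨h1, h2⟩ := runL_spec w (fun j hj => hw j (List.mem_cons_of_mem _ hj)) x hx v hv
    obtain ⟨hM, he⟩ := letter_eq hk
    have hok := letters_ok k hk
    simp only [letterOK, Bool.and_eq_true] at hok
    obtain ⟨-, -, hlen, -⟩ := matOK_of_lists hok.1.1
    refine ⟨by rw [runL, imgL, List.length_map, hlen], ?_⟩
    rw [val_cons, Subgroup.coe_mul, mul_smul, he]
    have hs := matImage_spec hM.2.2.1 ((val w : Co0) • v)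
    rw [h2, toMat_mulVec _ h1] at hs
    funext i
    show (matImage hM.2.2.1 ((val w : Co0) • v) : GolayPt → ℤ) i = _
    have e := congrFun hs i
    simp only [Pi.smul_apply, smul_eq_mul] at e
    have hi : Golay.idx i < (rowsOf k).length := hlen ▸ Golay.idx_lt i
    show _ = (runL (k :: w) x).getD (Golay.idx i) 0
    rw [runL, imgL, List.getD_eq_getElem _ _ (by simpa using hi), List.getElem_map]
    change ((rowsOf k).map fun r => dotL r (runL w x)).getD (Golay.idx i) 0 = _ at e
    rw [List.getD_eq_getElem _ _ (by simpa using hi), List.getElem_map] at e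
    omega

/-- Eight times a unit vector. -/
def unit8 (q : ℕ) : List ℤ := (List.range 24).map fun i => if i = q then 8 else 0

/-- The trace of a word, times eight. -/
noncomputable def trW (w : List ℕ) : ℤ := ((List.range 24).map fun q => (runL w (unit8 q)).getD q 0).sum

theorem tr8_val {w : List ℕ} (hw : ∀ k ∈ w, k < 17) : tr8 (val w) = trW w := by
  rw [tr8, Matrix.trace, trW, sum_list_range, ← sum_idx fun q => (runL w (unit8 q)).getD q 0]
  refine Finset.sum_congr rfl fun q _ => ?_
  have hv : (eightVec q : GolayPt → ℤ) = vOf (unit8 (Golay.idx q)) := funext fun i => by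
    show _ = (unit8 (Golay.idx q)).getD (Golay.idx i) 0
    rw [unit8, List.getD_eq_getElem _ _ (by simpa using Golay.idx_lt i), List.getElem_map,
      List.getElem_range, coe_eightVec, Pi.single_apply]
    simp only [Golay.idx_injective.eq_iff]
  obtain ⟨-, e⟩ := runL_spec w hw (unit8 (Golay.idx q)) (by simp [unit8]) (eightVec q) hv
  show (mat8 (val w)) q q = _
  rw [mat8, Matrix.of_apply, e]
  rfl

theorem trW_check : trW [15] = -64 ∧ trW (pw vPair) = 0 ∧ (∀ k ∈ pw vPair, k < 17) := by decide +kernel

theorem not_isConj_v : ¬ IsConj z0 (base0.el vPair) := fun h => by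
  have e := tr8_conj h
  obtain ⟨h1, h2, h3⟩ := trW_check
  rw [base0_el, tr8_val h3, h2, show z0 = val [15] from (val_single 15).symm,
    tr8_val (by simp), h1] at e
  norm_num at e

end Cfsg.Agent.CoTwoCert
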